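import Groth.Agent.GrpdLib.HomField
import Mathlib.AlgebraicGeometry.Morphisms.SchemeTheoreticallyDominant
import Mathlib.AlgebraicGeometry.Morphisms.ClosedImmersion

/-!
# Closed subgroupoids cut out by the image of a morphism of groupoids over a field
-/

set_option backward.isDefEq.respectTransparency false
set_option backward.isDefEq.respectTransparency.types false

universe u

open CategoryTheory CategoryTheory.Limits AlgebraicGeometry Grpd

namespace Groth.Agent.GrpdLib.ClosedSub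

variable {S : Scheme.{u}}

theorem hom_comm_i {G₁ G₂ : GroupoidScheme S} (a : GroupoidScheme.Hom G₁ G₂) :
    G₁.i ≫ a.fR = a.fR ≫ G₂.i := by
  have h₀ : 𝟙 G₁.R ≫ G₁.s = G₁.i ≫ G₁.t := by rw [G₁.i_t, Category.id_comp]
  have key := a.comm_c (𝟙 G₁.R) G₁.i h₀
  have e₁ : pullback.lift (𝟙 G₁.R) G₁.i h₀ ≫ G₁.c = G₁.t ≫ G₁.e := by
    refine Eq.trans ?_ ((G₁.comp_i (𝟙 G₁.R)).trans (Category.id_comp _))
    exact c_congr G₁ h₀ rfl (Category.id_comp _).symm
  rw [e₁, Category.assoc, hom_comm_e, ← reassoc_of% a.comm_t] at key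
  have h₂ := G₂.comp_i a.fR
  rw [key] at h₂
  have h := congrArg (· ≫ pullback.snd G₂.s G₂.t) ((isPullback_fst_c G₂).hom_ext
    ((pullback.lift_fst _ _ _).trans ((Category.id_comp _).trans (pullback.lift_fst _ _ _).symm)) h₂)
  simpa using h.symm

/-- The groupoid carried by a subobject of the arrows stable under the operations. -/
noncomputable def sub (G : GroupoidScheme S) {Z : Scheme.{u}} (z : Z ⟶ G.R) [Mono z]
    (eZ : G.U ⟶ Z) (he : eZ ≫ z = G.e) (iZ : Z ⟶ Z) (hi : iZ ≫ z = z ≫ G.i)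
    (cZ : pullback (z ≫ G.s) (z ≫ G.t) ⟶ Z)
    (hc : cZ ≫ z = pullback.map (z ≫ G.s) (z ≫ G.t) G.s G.t z z (𝟙 _) (Category.comp_id _) (Category.comp_id _) ≫ G.c) :
    GroupoidScheme S :=
  have hc' : ∀ {T : Scheme.{u}} (α β : T ⟶ Z) (h : α ≫ z ≫ G.s = β ≫ z ≫ G.t),
      (pullback.lift α β h ≫ cZ) ≫ z = pullback.lift (α ≫ z) (β ≫ z) (by simpa using h) ≫ G.c := by
    intro T α β h
    rw [Category.assoc, hc, ← Category.assoc]
    exact congrArg (· ≫ G.c) (by apply pullback.hom_ext <;> simp)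
  { U := G.U
    R := Z
    pU := G.pU
    pR := z ≫ G.pR
    s := z ≫ G.s
    t := z ≫ G.t
    e := eZ
    i := iZ
    c := cZ
    s_over := by rw [Category.assoc, G.s_over]
    t_over := by rw [Category.assoc, G.t_over]
    comp_s := fun α β h => by
      rw [← Category.assoc, hc', G.comp_s, Category.assoc]
    comp_t := fun α β h => by
      rw [← Category.assoc, hc', G.comp_t, Category.assoc]
    assoc := fun α β γ h₁ h₂ => by
      rw [← cancel_mono z]
      refine (hc' _ _ _).trans ?_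
      refine Eq.trans ?_ (hc' _ _ _).symm
      refine (c_congr G _ (hc' α β h₁) rfl).trans ((G.assoc _ _ _ _ (by simpa using h₂)).trans ?_)
      exact (c_congr G _ rfl (hc' β γ h₂).symm)
    e_s := by rw [reassoc_of% he, G.e_s]
    e_t := by rw [reassoc_of% he, G.e_t]
    comp_e := fun α => by
      rw [← cancel_mono z, hc']
      exact (c_congr G _ rfl (by simp [he])).trans (G.comp_e (α ≫ z))
    e_comp := fun α => by
      rw [← cancel_mono z, hc']
      exact (c_congr G _ (by simp [he]) rfl).trans (G.e_comp (α ≫ z))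
    i_s := by rw [reassoc_of% hi, G.i_s]
    i_t := by rw [reassoc_of% hi, G.i_t]
    comp_i := fun α => by
      rw [← cancel_mono z, hc']
      refine (c_congr G _ rfl (by simp [hi])).trans ((G.comp_i (α ≫ z)).trans ?_)
      simp [he]
    i_comp := fun α => by
      rw [← cancel_mono z, hc']
      refine (c_congr G _ (by simp [hi]) rfl).trans ((G.i_comp (α ≫ z)).trans ?_)
      simp [he] }

/-- The inclusion of the subgroupoid. -/
noncomputable def subHom (G : GroupoidScheme S) {Z : Scheme.{u}} (z : Z ⟶ G.R) [Mono z]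
    (eZ : G.U ⟶ Z) (he : eZ ≫ z = G.e) (iZ : Z ⟶ Z) (hi : iZ ≫ z = z ≫ G.i)
    (cZ : pullback (z ≫ G.s) (z ≫ G.t) ⟶ Z)
    (hc : cZ ≫ z = pullback.map (z ≫ G.s) (z ≫ G.t) G.s G.t z z (𝟙 _) (Category.comp_id _) (Category.comp_id _) ≫ G.c) :
    GroupoidScheme.Hom (sub G z eZ he iZ hi cZ hc) G where
  fU := 𝟙 _
  fR := z
  fU_over := Category.id_comp _
  comm_s := (Category.comp_id _).symm
  comm_t := (Category.comp_id _).symm
  comm_c α β h := by
    show (pullback.lift α β h ≫ cZ) ≫ z = _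
    rw [Category.assoc, hc, ← Category.assoc]
    refine congrArg (· ≫ G.c) ?_
    apply pullback.hom_ext
    · simp only [Category.assoc, pullback.lift_fst, pullback.map]
      exact pullback.lift_fst_assoc _ _ _ _
    · simp only [Category.assoc, pullback.lift_snd, pullback.map]
      exact pullback.lift_snd_assoc _ _ _ _

theorem exists_lift_of_ker {Z Y R : Scheme.{u}} (z : Z ⟶ R) [IsClosedImmersion z] {W : Scheme.{u}} (p : W ⟶ Y)
    [IsSchemeTheoreticallyDominant p] (m : Y ⟶ R) (n : W ⟶ Z) (h : n ≫ z = p ≫ m) :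
    ∃ l : Y ⟶ Z, l ≫ z = m := by
  have hk : z.ker ≤ (p ≫ m).ker := h ▸ n.le_ker_comp z
  rw [Scheme.Hom.ker_comp, p.ker_eq_bot, Scheme.IdealSheafData.map_bot] at hk
  exact ⟨IsClosedImmersion.lift z m hk, IsClosedImmersion.lift_fac _ _ _⟩

theorem exists_lift_of_range {Z Y R : Scheme.{u}} (z : Z ⟶ R) [IsClosedImmersion z] [IsReduced Y] (g : Y ⟶ R)
    (h : Set.range g ⊆ Set.range z) : ∃ l : Y ⟶ Z, l ≫ z = g := by
  have : Surjective (pullback.snd z g) := ⟨fun y => by
    obtain ⟨a, ha⟩ := h ⟨y, rfl⟩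
    obtain ⟨w, -, hw⟩ := Scheme.Pullback.exists_preimage_pullback (f := z) (g := g) a y ha
    exact ⟨w, hw⟩⟩
  have := isIso_of_isClosedImmersion_of_surjective (pullback.snd z g)
  exact ⟨inv (pullback.snd z g) ≫ pullback.fst z g, by simp [pullback.condition]⟩

theorem dense_range_snd {X Y Z : Scheme.{u}} {P : Scheme.{u}} {f : P ⟶ X} {g : P ⟶ Y} {a : X ⟶ Z} {b : Y ⟶ Z}
    (h : IsPullback f g a b) (ha : DenseRange a) [UniversallyOpen b] : DenseRange g := by
  refine (ha.preimage b.isOpenMap).mono fun y hy => ?_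
  obtain ⟨x, hx⟩ := hy
  obtain ⟨w, -, hw⟩ := Scheme.Pullback.exists_preimage_pullback (f := a) (g := b) x y hx
  refine ⟨h.isoPullback.inv w, ?_⟩
  rw [← Scheme.Hom.comp_apply, IsPullback.isoPullback_inv_snd]
  exact hw

section Pairs

variable {G₁ G₂ : GroupoidScheme S} (f : GroupoidScheme.Hom G₁ G₂) {Z W : Scheme.{u}} (z : Z ⟶ G₂.R)
  (w : W ⟶ G₁.R) (a' : W ⟶ Z)

/-- Pairs with first entry lifted. -/
noncomputable def q₁ : pullback (a' ≫ z ≫ G₂.s) (z ≫ G₂.t) ⟶ pullback (z ≫ G₂.s) (z ≫ G₂.t) :=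
  pullback.map _ _ _ _ a' (𝟙 _) (𝟙 _) (Category.comp_id _) ((Category.comp_id _).trans (Category.id_comp _).symm)

theorem isPullback_q₁ : IsPullback (pullback.fst (a' ≫ z ≫ G₂.s) (z ≫ G₂.t)) (q₁ z a') a'
    (pullback.fst (z ≫ G₂.s) (z ≫ G₂.t)) := by
  refine (IsPullback.of_bot (v₁₁ := q₁ z a') ?_ (pullback.lift_fst _ _ _).symm (IsPullback.of_hasPullback _ _))
  have e : q₁ z a' ≫ pullback.snd (z ≫ G₂.s) (z ≫ G₂.t) = pullback.snd (a' ≫ z ≫ G₂.s) (z ≫ G₂.t) :=
    (pullback.lift_snd _ _ _).trans (Category.comp_id _)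
  rw [e]
  exact IsPullback.of_hasPullback _ _

/-- Pairs with both entries lifted. -/
noncomputable def q : pullback (pullback.snd (a' ≫ z ≫ G₂.s) (z ≫ G₂.t)) a' ⟶
    pullback (z ≫ G₂.s) (z ≫ G₂.t) :=
  pullback.fst _ _ ≫ q₁ z a'

variable {z w a'}

theorem exists_comp_lift [IsIso f.fU] (hw : a' ≫ z = w ≫ f.fR) :
    ∃ n, n ≫ f.fR = q z a' ≫ pullback.map (z ≫ G₂.s) (z ≫ G₂.t) G₂.s G₂.t z z (𝟙 _) (Category.comp_id _)
      (Category.comp_id _) ≫ G₂.c := by
  let α := pullback.fst (pullback.snd (a' ≫ z ≫ G₂.s) (z ≫ G₂.t)) a' ≫ pullback.fst (a' ≫ z ≫ G₂.s) (z ≫ G₂.t)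
  let β := pullback.snd (pullback.snd (a' ≫ z ≫ G₂.s) (z ≫ G₂.t)) a'
  have hαβ : (α ≫ w) ≫ G₁.s = (β ≫ w) ≫ G₁.t := by
    rw [← cancel_mono f.fU, Category.assoc _ G₁.s, ← f.comm_s, Category.assoc _ G₁.t, ← f.comm_t]
    simp only [Category.assoc, ← reassoc_of% hw, α, β]
    rw [pullback.condition, pullback.condition_assoc]
  refine ⟨pullback.lift _ _ hαβ ≫ G₁.c, ?_⟩
  rw [f.comm_c, q, ← Category.assoc (pullback.fst _ _ ≫ q₁ z a')]
  congr 1
  apply pullback.hom_ext
  · simp [α, q₁, hw]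
  · simp only [β, q₁, pullback.lift_snd, Category.assoc, pullback.map, ← hw, Category.id_comp]
    rw [pullback.lift_snd_assoc, Category.comp_id, pullback.condition_assoc]

theorem exists_i_lift (hw : a' ≫ z = w ≫ f.fR) : (w ≫ G₁.i) ≫ f.fR = a' ≫ z ≫ G₂.i := by
  rw [Category.assoc, hom_comm_i, reassoc_of% hw]

end Pairs

section Field

variable {G : GroupoidScheme S} {k : Type u} [Field k] (eU : G.U ≅ Spec (CommRingCat.of k))

include eU in
theorem flat_to_U {X : Scheme.{u}} (g : X ⟶ G.U) : Flat g ∧ UniversallyOpen g := by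
  have : Nonempty G.U := ⟨eU.inv (IsLocalRing.closedPoint k)⟩
  have : IsIntegral G.U := isIntegral_of_isOpenImmersion eU.hom
  have : Subsingleton G.U := eU.hom.homeomorph.subsingleton
  exact ⟨inferInstance, inferInstance⟩

include eU in
/-- The pairs coming from the source are schematically dense. -/
theorem isSchemeTheoreticallyDominant_q {Z W : Scheme.{u}} (z : Z ⟶ G.R) (a' : W ⟶ Z)
    [IsSchemeTheoreticallyDominant a'] [QuasiCompact a'] :
    IsSchemeTheoreticallyDominant (q z a') := by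
  have := (flat_to_U eU (z ≫ G.t)).1
  have := (flat_to_U eU (a' ≫ z ≫ G.s)).1
  have := IsSchemeTheoreticallyDominant.of_isPullback (isPullback_q₁ z a')
  rw [q]
  infer_instance

include eU in
theorem denseRange_q {Z W : Scheme.{u}} (z : Z ⟶ G.R) (a' : W ⟶ Z) (ha : DenseRange a') :
    DenseRange (q z a') := by
  have := (flat_to_U eU (z ≫ G.t)).2
  have := (flat_to_U eU (a' ≫ z ≫ G.s)).2
  have h₁ : DenseRange (q₁ z a') := dense_range_snd (isPullback_q₁ z a') ha
  have h₂ : DenseRange (pullback.fst (pullback.snd (a' ≫ z ≫ G.s) (z ≫ G.t)) a') :=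
    dense_range_snd (IsPullback.of_hasPullback _ _).flip ha
  have := h₁.comp h₂ (q₁ z a').continuous
  rw [q]
  exact (by simpa [Function.comp_def] using this :)

end Field

variable {G₁ G₂ : GroupoidScheme S} (f : GroupoidScheme.Hom G₁ G₂) [IsIso f.fU] {k : Type u} [Field k]

/-- The scheme-theoretic image is a subgroupoid. -/
theorem exists_of_schematicImage (eU : G₂.U ≅ Spec (CommRingCat.of k)) {Z : Scheme.{u}} (z : Z ⟶ G₂.R)
    [IsClosedImmersion z] (a' : G₁.R ⟶ Z) (ha : a' ≫ z = f.fR) [IsSchemeTheoreticallyDominant a']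
    [QuasiCompact a'] :
    ∃ (eZ : G₂.U ⟶ Z) (iZ : Z ⟶ Z) (cZ : pullback (z ≫ G₂.s) (z ≫ G₂.t) ⟶ Z), eZ ≫ z = G₂.e ∧
      iZ ≫ z = z ≫ G₂.i ∧
      cZ ≫ z = pullback.map (z ≫ G₂.s) (z ≫ G₂.t) G₂.s G₂.t z z (𝟙 _) (Category.comp_id _) (Category.comp_id _) ≫ G₂.c := by
  have ha' : a' ≫ z = 𝟙 _ ≫ f.fR := by rw [ha, Category.id_comp]
  obtain ⟨iZ, hi⟩ := exists_lift_of_ker z a' (z ≫ G₂.i) (G₁.i ≫ a') (by
    rw [Category.assoc, ha, hom_comm_i, ← reassoc_of% ha])
  have := isSchemeTheoreticallyDominant_q eU z a'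
  obtain ⟨n, hn⟩ := exists_comp_lift f ha'
  obtain ⟨cZ, hc⟩ := exists_lift_of_ker z (q z a') _ (n ≫ a') (by rw [Category.assoc, ha, hn])
  exact ⟨inv f.fU ≫ G₁.e ≫ a', iZ, cZ,
    by rw [Category.assoc, Category.assoc, ha, hom_comm_e, IsIso.inv_hom_id_assoc], hi, hc⟩

theorem range_subset_of_dense {Y X R : Scheme.{u}} (p : X ⟶ Y) (hp : DenseRange p) (m : Y ⟶ R) {C : Set R}
    (hC : IsClosed C) (h : Set.range (p ≫ m) ⊆ C) : Set.range m ⊆ C := by
  rintro _ ⟨y, rfl⟩
  refine hp.induction_on (p := fun y => m y ∈ C) y (hC.preimage m.continuous) fun x => h ⟨x, ?_⟩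
  exact Scheme.Hom.comp_apply _ _ _

/-- The closure of the image is stable under inverse and composition. -/
theorem range_subset_closure (eU : G₂.U ≅ Spec (CommRingCat.of k)) {Z : Scheme.{u}} (z : Z ⟶ G₂.R)
    [IsClosedImmersion z] (hz : Set.range z = closure (Set.range f.fR)) :
    Set.range (z ≫ G₂.i) ⊆ Set.range z ∧
      Set.range (pullback.map (z ≫ G₂.s) (z ≫ G₂.t) G₂.s G₂.t z z (𝟙 _) (Category.comp_id _) (Category.comp_id _) ≫ G₂.c) ⊆
        Set.range z := by
  let a' := pullback.fst z f.fR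
  have hw : a' ≫ z = pullback.snd z f.fR ≫ f.fR := pullback.condition
  have hd : DenseRange a' := by
    intro y
    rw [z.isClosedEmbedding.isInducing.closure_eq_preimage_closure_image]
    refine closure_mono ?_ (hz.le ⟨y, rfl⟩)
    rintro _ ⟨r, rfl⟩
    obtain ⟨y', hy'⟩ := hz.ge (subset_closure ⟨r, rfl⟩)
    obtain ⟨v, hv, -⟩ := Scheme.Pullback.exists_preimage_pullback (f := z) (g := f.fR) y' r hy'
    exact ⟨a' v, ⟨v, rfl⟩, (congrArg z hv).trans hy'⟩
  have hsub : ∀ {X : Scheme.{u}} (n : X ⟶ G₁.R), Set.range (n ≫ f.fR) ⊆ Set.range z := by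
    rintro X n _ ⟨x, rfl⟩
    exact hz.ge (subset_closure ⟨n x, (Scheme.Hom.comp_apply _ _ _).symm⟩)
  constructor
  · refine range_subset_of_dense a' hd _ z.isClosedEmbedding.isClosed_range ?_
    rw [← exists_i_lift f hw]
    exact hsub _
  · obtain ⟨n, hn⟩ := exists_comp_lift f hw
    refine range_subset_of_dense (q z a') (denseRange_q eU z a' hd) _ z.isClosedEmbedding.isClosed_range ?_
    rw [← hn]
    exact hsub _

/-- The pair groupoid. -/
noncomputable def pair (U : Scheme.{u}) (pU : U ⟶ S) : GroupoidScheme S where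
  U := U
  R := pullback pU pU
  pU := pU
  pR := pullback.fst pU pU ≫ pU
  s := pullback.snd pU pU
  t := pullback.fst pU pU
  e := pullback.lift (𝟙 _) (𝟙 _) rfl
  i := pullback.lift (pullback.snd pU pU) (pullback.fst pU pU) pullback.condition.symm
  c := pullback.lift (pullback.fst _ _ ≫ pullback.fst pU pU) (pullback.snd _ _ ≫ pullback.snd pU pU) (by
    rw [Category.assoc, pullback.condition, ← Category.assoc, pullback.condition, Category.assoc, Category.assoc,
      pullback.condition])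
  s_over := pullback.condition.symm
  t_over := rfl
  comp_s α β h := by simp
  comp_t α β h := by simp
  assoc α β γ h₁ h₂ := by apply pullback.hom_ext <;> simp
  e_s := pullback.lift_snd _ _ _
  e_t := pullback.lift_fst _ _ _
  comp_e α := by apply pullback.hom_ext <;> simp
  e_comp α := by apply pullback.hom_ext <;> simp
  i_s := pullback.lift_snd _ _ _
  i_t := pullback.lift_fst _ _ _
  comp_i α := by apply pullback.hom_ext <;> simp
  i_comp α := by apply pullback.hom_ext <;> simp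

/-- The anchor `(t, s)` as a morphism to the pair groupoid. -/
noncomputable def anchor (G : GroupoidScheme S) : GroupoidScheme.Hom G (pair G.U G.pU) where
  fU := 𝟙 _
  fR := G.j
  fU_over := Category.id_comp _
  comm_s := (j_snd G).trans (Category.comp_id _).symm
  comm_t := (j_fst G).trans (Category.comp_id _).symm
  comm_c α β h := by
    apply pullback.hom_ext
    · simp only [pair, Category.assoc, pullback.lift_fst, pullback.lift_fst_assoc, j_fst]
      rw [← Category.assoc, G.comp_t]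
    · simp only [pair, Category.assoc, pullback.lift_snd, pullback.lift_snd_assoc, j_snd]
      rw [← Category.assoc, G.comp_s]

end Groth.Agent.GrpdLib.ClosedSub
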