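import Groth.Agent.GrpdLib.ClosedSub
import Groth.Agent.GrpSchLib.FieldReduced
import Groth.Agent.Triage.SchDense
import Groth.Agent.BMLib.Piece

/-!
# Closure and scheme-theoretic image subgroupoids over a field
-/

set_option backward.isDefEq.respectTransparency false
set_option backward.isDefEq.respectTransparency.types false

universe u

open CategoryTheory CategoryTheory.Limits AlgebraicGeometry Grpd TopologicalSpace

namespace Groth.Agent.GrpdLib.ClosedSub

variable {S : Scheme.{u}} {G₁ G₂ : GroupoidScheme S} (f : GroupoidScheme.Hom G₁ G₂) [IsIso f.fU]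
  {k : Type u} [Field k]

/-- The reduced closure of the image. -/
noncomputable abbrev redZ : Scheme.{u} :=
  (Scheme.IdealSheafData.vanishingIdeal (X := G₂.R) ⟨closure (Set.range f.fR), isClosed_closure⟩).subscheme

/-- Its inclusion. -/
noncomputable abbrev redι : redZ f ⟶ G₂.R :=
  (Scheme.IdealSheafData.vanishingIdeal (X := G₂.R) ⟨closure (Set.range f.fR), isClosed_closure⟩).subschemeι

omit [IsIso f.fU] in
theorem range_redι : Set.range (redι f) = closure (Set.range f.fR) := by
  rw [redι, Scheme.IdealSheafData.range_subschemeι, Scheme.IdealSheafData.coe_support_vanishingIdeal]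
  rfl

theorem c_mem_closure (eU : G₂.U ≅ Spec (CommRingCat.of k)) (p : ↥(pullback G₂.s G₂.t))
    (h₁ : pullback.fst G₂.s G₂.t p ∈ closure (Set.range f.fR))
    (h₂ : pullback.snd G₂.s G₂.t p ∈ closure (Set.range f.fR)) : G₂.c p ∈ closure (Set.range f.fR) := by
  rw [← range_redι f] at h₁ h₂ ⊢
  have hp : p ∈ Set.range (pullback.map (redι f ≫ G₂.s) (redι f ≫ G₂.t) G₂.s G₂.t (redι f) (redι f) (𝟙 _)
      (Category.comp_id _) (Category.comp_id _)) := by
    rw [Scheme.Pullback.range_map]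
    exact ⟨h₁, h₂⟩
  obtain ⟨y, rfl⟩ := hp
  exact (range_subset_closure f eU (redι f) (range_redι f)).2 ⟨y, Scheme.Hom.comp_apply _ _ _⟩

/-- Over a perfect field the reduced closure of the image is a subgroupoid. -/
theorem exists_of_closure [PerfectField k] (eU : G₂.U ≅ Spec (CommRingCat.of k)) :
    ∃ (eZ : G₂.U ⟶ redZ f) (iZ : redZ f ⟶ redZ f)
      (cZ : pullback (redι f ≫ G₂.s) (redι f ≫ G₂.t) ⟶ redZ f), eZ ≫ redι f = G₂.e ∧
      iZ ≫ redι f = redι f ≫ G₂.i ∧
      cZ ≫ redι f = pullback.map (redι f ≫ G₂.s) (redι f ≫ G₂.t) G₂.s G₂.t (redι f) (redι f) (𝟙 _)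
        (Category.comp_id _) (Category.comp_id _) ≫ G₂.c := by
  obtain ⟨hi, hc⟩ := range_subset_closure f eU (redι f) (range_redι f)
  have : IsReduced G₂.U := isReduced_of_isOpenImmersion eU.hom
  have := GrpSchLib.isReduced_pullback_of_perfectField (K := k) ((redι f ≫ G₂.s) ≫ eU.hom)
    ((redι f ≫ G₂.t) ≫ eU.hom)
  have : IsReduced (pullback (redι f ≫ G₂.s) (redι f ≫ G₂.t)) :=
    isReduced_of_isOpenImmersion (pullback.map (redι f ≫ G₂.s) (redι f ≫ G₂.t) ((redι f ≫ G₂.s) ≫ eU.hom)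
      ((redι f ≫ G₂.t) ≫ eU.hom) (𝟙 _) (𝟙 _) eU.hom (Category.id_comp _).symm (Category.id_comp _).symm)
  obtain ⟨iZ, hiZ⟩ := exists_lift_of_range (redι f) _ hi
  obtain ⟨cZ, hcZ⟩ := exists_lift_of_range (redι f) _ hc
  have he : Set.range G₂.e ⊆ Set.range (redι f) := by
    rintro _ ⟨x, rfl⟩
    rw [range_redι]
    refine subset_closure ⟨G₁.e (inv f.fU x), ?_⟩
    rw [← Scheme.Hom.comp_apply, ← Scheme.Hom.comp_apply, hom_comm_e, IsIso.inv_hom_id_assoc]
  obtain ⟨eZ, heZ⟩ := exists_lift_of_range (redι f) _ he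
  exact ⟨eZ, iZ, cZ, heZ, hiZ, hcZ⟩

theorem exists_closure_subgroupoid [PerfectField k] (eU : G₂.U ≅ Spec (CommRingCat.of k)) :
    ∃ (G' : GroupoidScheme S) (ψ : GroupoidScheme.Hom G' G₂), IsIso ψ.fU ∧ IsClosedImmersion ψ.fR ∧
      IsReduced G'.R ∧ Set.range ⇑ψ.fR = closure (Set.range ⇑f.fR) := by
  obtain ⟨eZ, iZ, cZ, he, hi, hc⟩ := exists_of_closure f eU
  exact ⟨_, subHom G₂ (redι f) eZ he iZ hi cZ hc, inferInstanceAs (IsIso (𝟙 G₂.U)),
    inferInstanceAs (IsClosedImmersion (redι f)), inferInstanceAs (IsReduced (redZ f)), range_redι f⟩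

theorem exists_image_subgroupoid (eU : G₂.U ≅ Spec (CommRingCat.of k)) [QuasiCompact f.fR] :
    ∃ (G' : GroupoidScheme S) (ψ : GroupoidScheme.Hom G' G₂), IsIso ψ.fU ∧ IsClosedImmersion ψ.fR ∧
      ψ.fR.ker = f.fR.ker := by
  have := Triage.SchDense.isSchemeTheoreticallyDominant_toImage f.fR
  obtain ⟨eZ, iZ, cZ, he, hi, hc⟩ := exists_of_schematicImage f eU f.fR.imageι f.fR.toImage f.fR.toImage_imageι
  exact ⟨_, subHom G₂ f.fR.imageι eZ he iZ hi cZ hc, inferInstanceAs (IsIso (𝟙 G₂.U)),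
    inferInstanceAs (IsClosedImmersion f.fR.imageι), Scheme.IdealSheafData.ker_subschemeι _⟩

theorem pr02_mem (G : GroupoidScheme S) (eU : G.U ≅ Spec (CommRingCat.of k))
    (pr02 : pullback (pullback.snd G.pU G.pU) (pullback.fst G.pU G.pU) ⟶ pullback G.pU G.pU)
    (h0 : pr02 ≫ pullback.fst G.pU G.pU = pullback.fst _ _ ≫ pullback.fst G.pU G.pU)
    (h1 : pr02 ≫ pullback.snd G.pU G.pU = pullback.snd _ _ ≫ pullback.snd G.pU G.pU)
    (p : ↥(pullback (pullback.snd G.pU G.pU) (pullback.fst G.pU G.pU)))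
    (h₁ : pullback.fst (pullback.snd G.pU G.pU) (pullback.fst G.pU G.pU) p ∈ closure (Set.range G.j))
    (h₂ : pullback.snd (pullback.snd G.pU G.pU) (pullback.fst G.pU G.pU) p ∈ closure (Set.range G.j)) :
    pr02 p ∈ closure (Set.range G.j) := by
  have e : pr02 = (pair G.U G.pU).c :=
    pullback.hom_ext (h0.trans (pullback.lift_fst _ _ _).symm) (h1.trans (pullback.lift_snd _ _ _).symm)
  rw [e]
  have : IsIso (anchor G).fU := inferInstanceAs (IsIso (𝟙 G.U))
  exact c_mem_closure (anchor G) eU p h₁ h₂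

omit [IsIso f.fU] in
theorem sub_j {U : Scheme.{u}} (pU : U ⟶ S) {Z : Scheme.{u}} (z : Z ⟶ (pair U pU).R) [Mono z] (eZ he iZ hi cZ hc) :
    (sub (pair U pU) z eZ he iZ hi cZ hc).j = z :=
  pullback.hom_ext (pullback.lift_fst _ _ _) (pullback.lift_snd _ _ _)

theorem exists_closure_j [PerfectField k] (G : GroupoidScheme S) (eU : G.U ≅ Spec (CommRingCat.of k)) :
    ∃ (G' : GroupoidScheme S) (ψ : G'.U ≅ G.U) (hψ : ψ.hom ≫ G.pU = G'.pU), IsReduced G'.R ∧
      IsClosedImmersion G'.j ∧ Set.range ⇑(G'.j ≫ pullback.map G'.pU G'.pU G.pU G.pU ψ.hom ψ.hom (𝟙 S)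
        ((Category.comp_id _).trans hψ.symm) ((Category.comp_id _).trans hψ.symm)) = closure (Set.range ⇑G.j) := by
  have : IsIso (anchor G).fU := inferInstanceAs (IsIso (𝟙 G.U))
  obtain ⟨eZ, iZ, cZ, he, hi, hc⟩ := exists_of_closure (anchor G) eU
  refine ⟨sub (pair G.U G.pU) (redι (anchor G)) eZ he iZ hi cZ hc, Iso.refl _, Category.id_comp _,
    inferInstanceAs (IsReduced (redZ (anchor G))), ?_, ?_⟩
  · rw [sub_j]
    exact inferInstanceAs (IsClosedImmersion (redι (anchor G)))
  · rw [sub_j]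
    refine Eq.trans ?_ (range_redι (anchor G))
    refine congrArg (fun m : redZ (anchor G) ⟶ pullback G.pU G.pU => Set.range ⇑m) ?_
    refine (congrArg (redι (anchor G) ≫ ·) ?_).trans (Category.comp_id _)
    apply pullback.hom_ext <;> simp <;> rfl

theorem exists_image_j (G : GroupoidScheme S) (eU : G.U ≅ Spec (CommRingCat.of k)) [CompactSpace G.R] :
    ∃ (G' : GroupoidScheme S) (φ : GroupoidScheme.Hom G G'), IsIso φ.fU ∧ IsClosedImmersion G'.j ∧
      G'.j.ker = (G.j ≫ pullback.map G.pU G.pU G'.pU G'.pU φ.fU φ.fU (𝟙 S)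
        ((Category.comp_id _).trans φ.fU_over.symm) ((Category.comp_id _).trans φ.fU_over.symm)).ker := by
  have : IsIso (anchor G).fU := inferInstanceAs (IsIso (𝟙 G.U))
  have : IsAffine G.U := IsAffine.of_isIso eU.hom
  have : (pullback G.pU G.pU).IsSeparated := ⟨by
    rw [show terminal.from (pullback G.pU G.pU) = pullback.fst G.pU G.pU ≫ terminal.from G.U from
      terminal.hom_ext _ _]
    infer_instance⟩
  have : QuasiCompact (anchor G).fR := inferInstanceAs (QuasiCompact G.j)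
  have := Triage.SchDense.isSchemeTheoreticallyDominant_toImage (anchor G).fR
  obtain ⟨eZ, iZ, cZ, he, hi, hc⟩ := exists_of_schematicImage (anchor G) eU (anchor G).fR.imageι
    (anchor G).fR.toImage (anchor G).fR.toImage_imageι
  let φ : GroupoidScheme.Hom G (sub (pair G.U G.pU) (anchor G).fR.imageι eZ he iZ hi cZ hc) :=
    { fU := 𝟙 _
      fR := (anchor G).fR.toImage
      fU_over := Category.id_comp _
      comm_s := ((reassoc_of% (anchor G).fR.toImage_imageι) _).trans (anchor G).comm_s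
      comm_t := ((reassoc_of% (anchor G).fR.toImage_imageι) _).trans (anchor G).comm_t
      comm_c := fun α β h => by
        apply (cancel_mono (anchor G).fR.imageι).1
        refine ((Category.assoc _ _ _).trans ((congrArg (_ ≫ ·) (anchor G).fR.toImage_imageι).trans
          ((anchor G).comm_c α β h))).trans ?_
        refine Eq.trans ?_ (Category.assoc _ _ _).symm
        refine Eq.trans ?_ (congrArg (_ ≫ ·) hc).symm
        refine Eq.trans ?_ (Category.assoc _ _ _)
        refine congrArg (· ≫ (pair G.U G.pU).c) ?_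
        apply pullback.hom_ext
        · rw [pullback.lift_fst, Category.assoc, pullback.lift_fst, ← Category.assoc]
          exact ((congrArg (· ≫ _) (pullback.lift_fst _ _ _)).trans
            ((Category.assoc _ _ _).trans (congrArg (α ≫ ·) (anchor G).fR.toImage_imageι))).symm
        · rw [pullback.lift_snd, Category.assoc, pullback.lift_snd, ← Category.assoc]
          exact ((congrArg (· ≫ _) (pullback.lift_snd _ _ _)).trans
            ((Category.assoc _ _ _).trans (congrArg (β ≫ ·) (anchor G).fR.toImage_imageι))).symm }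
  refine ⟨_, φ, inferInstanceAs (IsIso (𝟙 G.U)), ?_, ?_⟩
  · rw [sub_j]
    infer_instance
  · rw [sub_j]
    refine (Scheme.IdealSheafData.ker_subschemeι _).trans (congrArg Scheme.Hom.ker ?_)
    refine ((congrArg (G.j ≫ ·) ?_).trans (Category.comp_id _)).symm
    apply pullback.hom_ext <;> simp [φ] <;> rfl

end Groth.Agent.GrpdLib.ClosedSub
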