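import Groth.Agent.GrpdLib.StabTorsor
import Groth.Agent.FibDim.RelDim
import Groth.Agent.AlgSpDec.FieldFibre
import Groth.Agent.AlgSpDec.GpdStabDim
import Groth.Agent.H23.TopDim
import Groth.Agent.S1617

/-! A groupoid scheme over a field is equidimensional, of the dimension of its stabilizer. -/

set_option backward.isDefEq.respectTransparency false
set_option backward.isDefEq.respectTransparency.types false

universe u

open CategoryTheory CategoryTheory.Limits AlgebraicGeometry Grpd Groth.Agent.AlgSpPts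

namespace Groth.Agent.GrpdLib.FieldDim

noncomputable local instance instSpecOrder (X : Scheme.{u}) : PartialOrder ↥X := specializationOrder _

variable {S : Scheme.{u}} (G : GroupoidScheme S)

theorem subsingleton_U {k : Type u} [Field k] (eU : G.U ≅ Spec (CommRingCat.of k)) : Subsingleton G.U :=
  eU.hom.homeomorph.subsingleton

/-- The fibre dimension of the source map at an arrow is that at the identity of its target. -/
theorem fibreDimAt_s [LocallyOfFiniteType G.s] (r : G.R) :
    FlatMor.fibreDimAt G.s r = FlatMor.fibreDimAt G.s (G.e (G.t r)) := by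
  let σ : G.R ⟶ pullback G.s G.t := pullback.lift (G.t ≫ G.e) (𝟙 G.R)
    (by rw [Category.assoc, G.e_s, Category.comp_id, Category.id_comp])
  haveI : LocallyOfFiniteType (pullback.snd G.s G.t) :=
    MorphismProperty.pullback_snd _ _ inferInstance
  have h1 := FibDim.fibreDimAt_baseChange (IsPullback.of_hasPullback G.s G.t) (σ r)
  have h2 := FibDim.fibreDimAt_baseChange (isPullback_snd_c G).flip (σ r)
  rw [h1] at h2
  have hc : σ ≫ G.c = 𝟙 _ := by
    have := G.e_comp (𝟙 G.R)
    simp only [Category.id_comp] at this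
    exact this
  have e1 : pullback.fst G.s G.t (σ r) = G.e (G.t r) := by
    rw [← Scheme.Hom.comp_apply, pullback.lift_fst]
    rfl
  have e2 : G.c (σ r) = r := by
    rw [← Scheme.Hom.comp_apply, hc]
    rfl
  rw [e1, e2] at h2
  exact h2.symm

theorem equidim {k : Type u} [Field k] (eU : G.U ≅ Spec (CommRingCat.of k)) [LocallyOfFiniteType G.s]
    (r : G.R) : FlatMor.localDim ↥G.R r = topologicalKrullDim ↥G.R := by
  haveI := subsingleton_U G eU
  have h : ∀ r' : G.R, FlatMor.localDim ↥G.R r' = FlatMor.localDim ↥G.R r := fun r' => by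
    rw [← AlgSpDec.FieldFibre.fibreDimAt_of_subsingleton G.s r', ← AlgSpDec.FieldFibre.fibreDimAt_of_subsingleton G.s r,
      fibreDimAt_s G r', fibreDimAt_s G r, Subsingleton.elim (G.t r') (G.t r)]
  haveI : Nonempty G.R := ⟨r⟩
  rw [H23.TopDim.dim_eq_iSup_localDim, iSup_congr h, iSup_const]

theorem dim_component {k : Type u} [Field k] (eU : G.U ≅ Spec (CommRingCat.of k)) [LocallyOfFiniteType G.s]
    {Z : Set G.R} (hZ : Z ∈ irreducibleComponents ↥G.R) :
    topologicalKrullDim ↥Z = topologicalKrullDim ↥G.R := by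
  letI : G.R.Over (Spec (CommRingCat.of k)) := ⟨G.s ≫ eU.hom⟩
  haveI : LocallyOfFiniteType (G.R ↘ Spec (CommRingCat.of k)) :=
    inferInstanceAs (LocallyOfFiniteType (G.s ≫ eU.hom))
  have hZc := isClosed_of_mem_irreducibleComponents Z hZ
  have hirr : IsIrreducible Z := hZ.1
  let η := hirr.genericPoint
  have hη : closure {η} = Z := by
    rw [IsIrreducible.closure_genericPoint hirr hZc]
  have hmax : ∀ z, z ⤳ η → z = η := fun z hz => by
    have hsub : Z ⊆ closure {z} := by
      rw [← hη]
      exact specializes_iff_closure_subset.mp hz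
    have hzη : η ⤳ z := specializes_iff_mem_closure.mpr (by
      rw [hη]
      exact hZ.2 isIrreducible_singleton.closure hsub (subset_closure rfl))
    exact (hz.antisymm hzη).eq
  obtain ⟨b, hb, ⟨η', hη', hdeg⟩, -⟩ := VarDim.exists_deg_add_stalk (G.R ↘ Spec (CommRingCat.of k)) η
  rw [hmax η' hη'] at hdeg
  have hb0 : b = 0 := by omega
  rw [← equidim G eU η, S1617.localDim_eq k G.R η b hb, hb0, add_zero, ← hη,
    VarDim.topologicalKrullDim_closure_singleton (G.R ↘ Spec (CommRingCat.of k)) η]
  rfl

theorem stalk_dim {k : Type u} [Field k] (eU : G.U ≅ Spec (CommRingCat.of k)) [LocallyOfFiniteType G.s]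
    (r : G.R) (hr : IsClosed ({r} : Set G.R)) :
    (ringKrullDim (G.R.presheaf.stalk r) : WithBot ℕ∞) = topologicalKrullDim ↥G.R := by
  letI : G.R.Over (Spec (CommRingCat.of k)) := ⟨G.s ≫ eU.hom⟩
  haveI : LocallyOfFiniteType (G.R ↘ Spec (CommRingCat.of k)) :=
    inferInstanceAs (LocallyOfFiniteType (G.s ≫ eU.hom))
  rw [← S1617.result k G.R r hr, equidim G eU r]

theorem mono_diag : Mono G.diag :=
  SplitMono.mono ⟨pullback.fst G.pU G.pU, pullback.lift_fst _ _ _⟩

theorem dim_stabilizer {k : Type u} [Field k] (eU : G.U ≅ Spec (CommRingCat.of k)) [LocallyOfFiniteType G.s] :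
    topologicalKrullDim ↥G.R = topologicalKrullDim ↥G.stabilizer := by
  haveI := mono_diag G
  haveI : Mono (stabι G) := inferInstanceAs (Mono (pullback.fst G.j G.diag))
  have hinj : Function.Injective (stabι G) := Scheme.Hom.injective _
  refine le_antisymm ?_ ?_
  · let ρ : Spec (CommRingCat.of k) ⟶ G.R := eU.inv ≫ G.e
    haveI : IsLocallyNoetherian G.R := LocallyOfFiniteType.isLocallyNoetherian (G.s ≫ eU.hom)
    obtain ⟨X', j, hj, hjo, hju, hjst⟩ := AlgSpDec.GpdStabDim.exists_nhd_agree (G.s ≫ eU.hom) (G.t ≫ eU.hom) ρ (by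
      simp only [ρ, Category.assoc]
      rw [reassoc_of% G.e_s, reassoc_of% G.e_t])
    have hjst' : j ≫ G.t = j ≫ G.s := by
      rw [← cancel_mono eU.hom, Category.assoc, Category.assoc, hjst]
    obtain ⟨l, hl, -⟩ := exists_stab_lift G j hjst'
    have hlinj : Function.Injective l := fun x y hxy => hj.injective (by
      rw [← hl, Scheme.Hom.comp_apply, Scheme.Hom.comp_apply, hxy])
    rw [← equidim G eU (ρ (IsLocalRing.closedPoint k))]
    refine (iInf_le _ (⟨⟨_, hjo⟩, hju⟩ : {W : TopologicalSpace.Opens ↥G.R // _ ∈ W})).trans ?_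
    refine le_trans (le_of_eq (IsHomeomorph.topologicalKrullDim_eq _ hj.toHomeomorph.symm.isHomeomorph)) ?_
    rw [topologicalKrullDim_eq_krullDim, topologicalKrullDim_eq_krullDim]
    exact Order.krullDim_le_of_strictMono _ (AlgSpDec.GpdStabDim.strictMono_of_injective l hlinj)
  · rw [topologicalKrullDim_eq_krullDim, topologicalKrullDim_eq_krullDim]
    exact Order.krullDim_le_of_strictMono _ (AlgSpDec.GpdStabDim.strictMono_of_injective _ hinj)

end Groth.Agent.GrpdLib.FieldDim
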