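import Groth.Agent.GrpdLib.FieldDim
import Groth.Agent.GrpSchLib.Cartier
import Groth.Agent.S2155
import Groth.Agent.AssLib.FlatField
import Groth.Agent.GrpdLib.DegDecomp

/-! Groupoid schemes over a field of characteristic zero, or reduced over a perfect field, are smooth. -/

set_option backward.isDefEq.respectTransparency false
set_option backward.isDefEq.respectTransparency.types false

universe u

open CategoryTheory CategoryTheory.Limits AlgebraicGeometry Grpd TrivSqZeroExt

namespace Groth.Agent.GrpdLib.FieldSmooth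

variable {S : Scheme.{u}} (G : GroupoidScheme S)

theorem flat_of_field {k : Type u} [Field k] (eU : G.U ≅ Spec (CommRingCat.of k)) (f : G.R ⟶ G.U) : Flat f := by
  haveI : Flat (f ≫ eU.hom) := AssLib.flat_over_field _
  exact (MorphismProperty.cancel_right_of_respectsIso @Flat f eU.hom).1 inferInstance

theorem smoothLocus_comp_iso {X Y Z : Scheme.{u}} (f : X ⟶ Y) (e : Y ⟶ Z) [IsIso e] [LocallyOfFinitePresentation f] :
    (f ≫ e).smoothLocus = f.smoothLocus := by
  ext x
  show ((f ≫ e).stalkMap x).hom.FormallySmooth ↔ (f.stalkMap x).hom.FormallySmooth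
  rw [Scheme.Hom.stalkMap_comp]
  exact RingHom.FormallySmooth.respectsIso.cancel_left_isIso (e.stalkMap (f x)) (f.stalkMap x)

theorem smooth_of_mem {k : Type u} [Field k] (eU : G.U ≅ Spec (CommRingCat.of k)) [LocallyOfFinitePresentation G.s]
    {r₀ : G.R} (h₀ : r₀ ∈ G.s.smoothLocus) : Smooth G.s := by
  haveI := FieldDim.subsingleton_U G eU
  haveI : LocallyOfFinitePresentation (pullback.snd G.s G.t) := MorphismProperty.pullback_snd _ _ inferInstance
  have e1 := S2155.result G.s G.t (pullback.snd G.s G.t) (pullback.fst G.s G.t) (IsPullback.of_hasPullback G.s G.t)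
    (Or.inr (flat_of_field G eU G.t))
  have e2 := S2155.result G.s G.s (pullback.snd G.s G.t) G.c (isPullback_snd_c G).flip
    (Or.inr (flat_of_field G eU G.s))
  have key : ∀ r : G.R, r ∈ G.s.smoothLocus ↔ G.e (G.t r) ∈ G.s.smoothLocus := fun r => by
    let σ : G.R ⟶ pullback G.s G.t := pullback.lift (G.t ≫ G.e) (𝟙 G.R)
      (by rw [Category.assoc, G.e_s, Category.comp_id, Category.id_comp])
    have hc : σ ≫ G.c = 𝟙 _ := by
      have := G.e_comp (𝟙 G.R)
      simp only [Category.id_comp] at this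
      exact this
    have h1 : pullback.fst G.s G.t (σ r) = G.e (G.t r) := by
      rw [← Scheme.Hom.comp_apply, pullback.lift_fst]
      rfl
    have h2 : G.c (σ r) = r := by
      rw [← Scheme.Hom.comp_apply, hc]
      rfl
    rw [← h1]
    conv_lhs => rw [← h2]
    show σ r ∈ G.c ⁻¹ᵁ G.s.smoothLocus ↔ σ r ∈ pullback.fst G.s G.t ⁻¹ᵁ G.s.smoothLocus
    rw [← e1, ← e2]
  rw [← Scheme.Hom.smoothLocus_eq_top_iff, eq_top_iff]
  intro r _
  rw [key, Subsingleton.elim (G.t r) (G.t r₀), ← key]
  exact h₀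

theorem smooth_t_of_smooth_s [Smooth G.s] : Smooth G.t := by
  haveI : IsIso G.i := ⟨⟨G.i, i_i G, i_i G⟩⟩
  rw [← G.i_s]
  infer_instance

theorem c_eq_right {T : Scheme.{u}} {α β γ : T ⟶ G.R} (h : α ≫ G.s = β ≫ G.t) (ha : α = γ ≫ G.t ≫ G.e)
    (hb : β = γ) : pullback.lift α β h ≫ G.c = γ := by
  subst ha hb
  exact G.e_comp _

theorem c_eq_left {T : Scheme.{u}} {α β γ : T ⟶ G.R} (h : α ≫ G.s = β ≫ G.t) (ha : α = γ)
    (hb : β = γ ≫ G.s ≫ G.e) : pullback.lift α β h ≫ G.c = γ := by
  subst ha hb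
  exact G.comp_e _

/-- Translation of a tangent vector at the identity by the groupoid law. -/
theorem exists_translate_ringHom {k B C E : Type u} [Field k] [CommRing B] [CommRing C] [CommRing E]
    (eU : G.U ≅ Spec (CommRingCat.of k)) (alg : k →+* B) (τ : k →+* B) (χ : B →+* k) (g : B →+* E)
    (inlB : B →+* C) (fstB : C →+* B) (mapτ : E →+* C) (evε : C →+* E) (ι : k →+* E)
    (j : Spec (CommRingCat.of B) ⟶ G.R) [IsOpenImmersion j]
    (hj : j ≫ G.s ≫ eU.hom = Spec.map (CommRingCat.ofHom alg))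
    (hτ : j ≫ G.t ≫ eU.hom = Spec.map (CommRingCat.ofHom τ))
    (hχ : Spec.map (CommRingCat.ofHom χ) ≫ j = eU.inv ≫ G.e)
    (hnil : ∀ x, fstB x = 0 → IsNilpotent x) (h1 : fstB.comp inlB = RingHom.id B)
    (h2 : (mapτ.comp g).comp alg = inlB.comp τ) (h3 : (fstB.comp mapτ).comp g = τ.comp χ)
    (h4 : evε.comp inlB = ι.comp χ) (h5 : g.comp alg = ι) (h6 : (evε.comp mapτ).comp g = g) :
    ∃ φ : B →+* C, (∀ b, fstB (φ b) = b) ∧ (∀ c, φ (alg c) = inlB (alg c)) ∧ ∀ b, evε (φ b) = g b := by
  let p₁ : Spec (CommRingCat.of C) ⟶ G.R := Spec.map (CommRingCat.ofHom inlB) ≫ j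
  let p₂ : Spec (CommRingCat.of C) ⟶ G.R :=
    Spec.map (CommRingCat.ofHom mapτ) ≫ Spec.map (CommRingCat.ofHom g) ≫ j
  have hsp : ∀ {C₁ C₂ C₃ : Type u} [CommRing C₁] [CommRing C₂] [CommRing C₃] (φ : C₁ →+* C₂) (ψ : C₂ →+* C₃),
      Spec.map (CommRingCat.ofHom ψ) ≫ Spec.map (CommRingCat.ofHom φ) = Spec.map (CommRingCat.ofHom (ψ.comp φ)) :=
    fun φ ψ => (Spec.map_comp _ _).symm
  have hw : p₂ ≫ G.s = p₁ ≫ G.t := by
    rw [← cancel_mono eU.hom]
    simp only [p₁, p₂, Category.assoc]
    rw [hj, hτ, hsp, hsp, hsp, ← RingHom.comp_assoc, h2]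
  let Ψ : Spec (CommRingCat.of C) ⟶ G.R := pullback.lift p₂ p₁ hw ≫ G.c
  have hfst : Spec.map (CommRingCat.ofHom fstB) ≫ Ψ = j := by
    simp only [Ψ]
    rw [lift_comp_c]
    have e1 : Spec.map (CommRingCat.ofHom fstB) ≫ p₁ = j := by
      simp only [p₁]
      rw [← Category.assoc, hsp, h1]
      simp
    have e2 : Spec.map (CommRingCat.ofHom fstB) ≫ p₂ = j ≫ G.t ≫ G.e := by
      simp only [p₂]
      rw [← Category.assoc, ← Category.assoc, hsp, hsp, h3, ← hsp, Category.assoc, hχ, ← hτ]
      simp [Category.assoc]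
    exact c_eq_right G _ e2 e1
  have hrange : Set.range Ψ ⊆ Set.range j := by
    rintro _ ⟨P, rfl⟩
    refine ⟨(⟨Ideal.comap inlB P.asIdeal, Ideal.comap_isPrime _ _⟩ : PrimeSpectrum B), ?_⟩
    have hP : Spec.map (CommRingCat.ofHom fstB) (⟨Ideal.comap inlB P.asIdeal, Ideal.comap_isPrime _ _⟩ : PrimeSpectrum B) = P := by
      apply PrimeSpectrum.ext
      show Ideal.comap fstB (Ideal.comap inlB P.asIdeal) = P.asIdeal
      have hd : ∀ x, x - inlB (fstB x) ∈ P.asIdeal := fun x => by
        refine nilradical_le_prime P.asIdeal (mem_nilradical.mpr (hnil _ ?_))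
        rw [map_sub, ← RingHom.comp_apply fstB inlB, h1, RingHom.id_apply, sub_self]
      refine le_antisymm (fun x hx => ?_) (fun x hx => ?_)
      · simpa using P.asIdeal.add_mem (hd x) (show inlB (fstB x) ∈ P.asIdeal from hx)
      · show inlB (fstB x) ∈ P.asIdeal
        simpa using P.asIdeal.sub_mem hx (hd x)
    conv_rhs => rw [← hP]
    rw [← Scheme.Hom.comp_apply, hfst]
  obtain ⟨f, hf⟩ : ∃ f : Spec (CommRingCat.of C) ⟶ Spec (CommRingCat.of B), f ≫ j = Ψ :=
    ⟨IsOpenImmersion.lift j Ψ hrange, IsOpenImmersion.lift_fac _ _ _⟩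
  obtain ⟨φ, rfl⟩ := Spec.map_surjective f
  refine ⟨φ.hom, fun b => ?_, fun c => ?_, fun b => ?_⟩
  · have h : Spec.map (CommRingCat.ofHom fstB) ≫ Spec.map φ = Spec.map (𝟙 (CommRingCat.of B)) := by
      rw [Spec.map_id, ← cancel_mono j, Category.assoc, hf, Category.id_comp, hfst]
    rw [← Spec.map_comp] at h
    exact congrArg (fun q => q.hom b) (Spec.map_injective h)
  · have h : Spec.map φ ≫ Spec.map (CommRingCat.ofHom alg) =
        Spec.map (CommRingCat.ofHom inlB) ≫ Spec.map (CommRingCat.ofHom alg) := by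
      rw [← hj, ← Category.assoc, hf]
      simp only [Ψ]
      rw [← Category.assoc (pullback.lift p₂ p₁ hw ≫ G.c), G.comp_s]
      simp only [p₁, Category.assoc]
    rw [← Spec.map_comp, ← Spec.map_comp] at h
    exact congrArg (fun q => q.hom c) (Spec.map_injective h)
  · have hev : Spec.map (CommRingCat.ofHom evε) ≫ Ψ = Spec.map (CommRingCat.ofHom g) ≫ j := by
      simp only [Ψ]
      rw [lift_comp_c]
      have e1 : Spec.map (CommRingCat.ofHom evε) ≫ p₁ = (Spec.map (CommRingCat.ofHom g) ≫ j) ≫ G.s ≫ G.e := by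
        simp only [p₁]
        rw [← Category.assoc, hsp, h4, ← hsp, Category.assoc, hχ]
        have : (Spec.map (CommRingCat.ofHom g) ≫ j) ≫ G.s ≫ eU.hom = Spec.map (CommRingCat.ofHom ι) := by
          rw [Category.assoc, hj, hsp, h5]
        rw [← this]
        simp [Category.assoc]
      have e2 : Spec.map (CommRingCat.ofHom evε) ≫ p₂ = Spec.map (CommRingCat.ofHom g) ≫ j := by
        simp only [p₂]
        rw [← Category.assoc, ← Category.assoc, hsp, hsp, h6]
      exact c_eq_left G _ e2 e1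
    have h : Spec.map (CommRingCat.ofHom evε) ≫ Spec.map φ = Spec.map (CommRingCat.ofHom g) := by
      rw [← cancel_mono j, Category.assoc, hf, hev]
    rw [← Spec.map_comp] at h
    exact congrArg (fun q => q.hom b) (Spec.map_injective h)

/-- Tangent vectors at the identity extend to derivations. -/
theorem exists_derivation_lift {k : Type u} [Field k] (eU : G.U ≅ Spec (CommRingCat.of k)) (B : Type u) [CommRing B]
    [Algebra k B] (j : Spec (CommRingCat.of B) ⟶ G.R) [IsOpenImmersion j]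
    (hj : j ≫ G.s ≫ eU.hom = Spec.map (CommRingCat.ofHom (algebraMap k B)))
    (χ : B →ₐ[k] k) (hχ : Spec.map (CommRingCat.ofHom χ.toRingHom) ≫ j = eU.inv ≫ G.e)
    (l : B →ₗ[k] k) (hl1 : l 1 = 0) (hl : ∀ a ∈ RingHom.ker χ ^ 2, l a = 0) :
    ∃ D : Derivation k B B, ∀ b, D b - algebraMap k B (l b) ∈ RingHom.ker χ := by
  have hlmul : ∀ a b, l (a * b) = χ a * l b + χ b * l a := by
    intro a b
    have h := hl ((a - algebraMap k B (χ a)) * (b - algebraMap k B (χ b))) (by
      rw [pow_two]; exact Ideal.mul_mem_mul (by simp [RingHom.mem_ker]) (by simp [RingHom.mem_ker]))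
    have e : (a - algebraMap k B (χ a)) * (b - algebraMap k B (χ b)) =
        a * b - χ a • b - χ b • a + (χ a * χ b) • (1 : B) := by
      simp [Algebra.smul_def]; ring
    rw [e] at h
    simp [hl1] at h
    linear_combination h
  let g : B →ₐ[k] DualNumber k := AlgHom.ofLinearMap
    ((TrivSqZeroExt.inlAlgHom k k k).toLinearMap ∘ₗ χ.toLinearMap + (TrivSqZeroExt.inrHom k k) ∘ₗ l)
    (by simp [hl1])
    (fun a b => by
      ext
      · simp
      · simp [hlmul]; ring)
  obtain ⟨τ', hτ'⟩ := Spec.map_surjective (j ≫ G.t ≫ eU.hom)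
  let τ : k →+* B := τ'.hom
  have hχτ : ∀ c, χ (τ c) = c := fun c => by
    have h : Spec.map (CommRingCat.ofHom χ.toRingHom) ≫ Spec.map τ' = Spec.map (𝟙 (CommRingCat.of k)) := by
      rw [hτ', reassoc_of% hχ, reassoc_of% G.e_t, Iso.inv_hom_id, Spec.map_id]
    rw [← Spec.map_comp] at h
    exact congrArg (fun q => q.hom c) (Spec.map_injective h)
  let inlB : B →+* DualNumber B := TrivSqZeroExt.inlHom B B
  let fstB : DualNumber B →+* B := (TrivSqZeroExt.fstHom B B B).toRingHom
  let mapτ : DualNumber k →+* DualNumber B :=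
    { toFun := fun z => TrivSqZeroExt.inl (τ z.fst) + TrivSqZeroExt.inr (τ z.snd)
      map_one' := by ext <;> simp
      map_zero' := by ext <;> simp
      map_add' := fun a b => by ext <;> simp
      map_mul' := fun a b => by
        ext
        · simp
        · simp }
  let evε : DualNumber B →+* DualNumber k :=
    { toFun := fun z => TrivSqZeroExt.inl (χ z.fst) + TrivSqZeroExt.inr (χ z.snd)
      map_one' := by ext <;> simp
      map_zero' := by ext <;> simp
      map_add' := fun a b => by ext <;> simp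
      map_mul' := fun a b => by
        ext
        · simp
        · simp }
  obtain ⟨φ, hsec, hφk, hg⟩ := exists_translate_ringHom G eU (algebraMap k B) τ χ.toRingHom g.toRingHom inlB fstB
    mapτ evε (TrivSqZeroExt.inlHom k k) j hj hτ'.symm hχ
    (fun x hx => by
      have hx0 : x.fst = 0 := by simpa [fstB] using hx
      exact ⟨2, by ext <;> simp [pow_two, hx0]⟩)
    (RingHom.ext fun b => rfl)
    (by ext c <;> simp [mapτ, g, inlB, hl1, Algebra.algebraMap_eq_smul_one, TrivSqZeroExt.algebraMap_eq_inl'])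
    (RingHom.ext fun b => by simp [fstB, mapτ, g])
    (RingHom.ext fun b => by ext <;> simp [evε, inlB])
    (by ext c <;> simp [g, hl1, Algebra.algebraMap_eq_smul_one, TrivSqZeroExt.algebraMap_eq_inl'])
    (by ext b <;> simp [evε, mapτ, g, hχτ])
  have hsec' : ∀ b, (φ b).fst = b := hsec
  let D : Derivation k B B := Derivation.mk'
    { toFun := fun b => (φ b).snd
      map_add' := fun a b => by simp
      map_smul' := fun c b => by
        simp [Algebra.smul_def, hφk, inlB, hsec'] }
    (fun a b => by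
      simp [hsec']
      ring)
  refine ⟨D, fun b => ?_⟩
  have := congrArg TrivSqZeroExt.snd (hg b)
  rw [RingHom.mem_ker, map_sub, AlgHom.commutes, sub_eq_zero]
  simpa [evε, g, D] using this

theorem exists_mem_smoothLocus_charZero {k : Type u} [Field k] [CharZero k] (eU : G.U ≅ Spec (CommRingCat.of k))
    [LocallyOfFinitePresentation G.s] : ∃ r, r ∈ G.s.smoothLocus := by
  let e₀ := (eU.inv ≫ G.e) (IsLocalRing.closedPoint k)
  obtain ⟨U, hU, hxU, -⟩ := exists_isAffineOpen_mem_and_subset (show e₀ ∈ (⊤ : G.R.Opens) from trivial)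
  set B : CommRingCat := Γ(G.R, U)
  let j : Spec B ⟶ G.R := hU.fromSpec
  obtain ⟨s, hs⟩ := Spec.map_surjective (j ≫ G.s ≫ eU.hom)
  letI : Algebra k B := s.hom.toAlgebra
  have hj : j ≫ G.s ≫ eU.hom = Spec.map (CommRingCat.ofHom (algebraMap k B)) := hs.symm
  have hrange : Set.range (eU.inv ≫ G.e) ⊆ Set.range j := by
    rintro _ ⟨(p : Spec (CommRingCat.of k)), rfl⟩
    rw [hU.range_fromSpec, Subsingleton.elim p (IsLocalRing.closedPoint k)]
    exact hxU
  obtain ⟨q, hq⟩ := Spec.map_surjective (IsOpenImmersion.lift j (eU.inv ≫ G.e) hrange)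
  have hqj : Spec.map q ≫ j = eU.inv ≫ G.e := by rw [hq]; exact IsOpenImmersion.lift_fac _ _ _
  have hqk : ∀ c : k, q.hom (algebraMap k B c) = c := by
    have h : Spec.map q ≫ Spec.map (CommRingCat.ofHom (algebraMap k B)) = Spec.map (𝟙 (CommRingCat.of k)) := by
      rw [← hj, reassoc_of% hqj, reassoc_of% G.e_s, Iso.inv_hom_id, Spec.map_id]
    rw [← Spec.map_comp] at h
    exact fun c => congrArg (fun r => r.hom c) (Spec.map_injective h)
  let χ : B →ₐ[k] k := { q.hom with commutes' := hqk }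
  haveI : LocallyOfFiniteType (j ≫ G.s ≫ eU.hom) := inferInstance
  haveI : Algebra.FiniteType k B := by
    have h : LocallyOfFiniteType (Spec.map (CommRingCat.ofHom (algebraMap k B))) := hj ▸ inferInstance
    exact (HasRingHomProperty.Spec_iff (P := @LocallyOfFiniteType)).mp h
  haveI : IsNoetherianRing B := Algebra.FiniteType.isNoetherianRing k B
  let P : Ideal B := RingHom.ker χ
  haveI : P.IsMaximal := RingHom.ker_isMaximal_of_surjective χ (fun c => ⟨algebraMap k B c, hqk c⟩)
  haveI : IsDomain (Localization.AtPrime P) := GrpSchLib.isDomain_of_derivations P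
    (fun b => ⟨χ b, by simp [P, RingHom.mem_ker]⟩)
    (fun l h1 h2 => exists_derivation_lift G eU B j hj χ hqj l h1 h2) _
  -- a principal open around the identity with reduced ring
  obtain ⟨g, hgP, hgr⟩ : ∃ g : B, g ∉ P ∧ ∀ x ∈ nilradical B, g * x = 0 := by
    obtain ⟨t, ht⟩ := IsNoetherian.noetherian (nilradical B)
    have : ∀ x ∈ t, ∃ s : P.primeCompl, (s : B) * x = 0 := fun x hx => by
      have hx' : algebraMap B (Localization.AtPrime P) x = 0 :=
        (IsNilpotent.map (ht ▸ Submodule.subset_span hx : x ∈ nilradical B) _).eq_zero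
      exact (IsLocalization.map_eq_zero_iff P.primeCompl _ x).1 hx'
    choose s hs using this
    refine ⟨∏ x ∈ t.attach, (s x.1 x.2 : B), ?_, fun x hx => ?_⟩
    · exact (P.primeCompl.prod_mem fun x _ => (s x.1 x.2).2)
    · rw [← ht] at hx
      induction hx using Submodule.span_induction with
      | mem y hy =>
        classical
        rw [← Finset.prod_erase_mul _ _ (Finset.mem_attach t ⟨y, hy⟩), _root_.mul_assoc, hs, mul_zero]
      | zero => exact mul_zero _
      | add a b _ _ ha hb => rw [mul_add, ha, hb, add_zero]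
      | smul a b _ hb => rw [smul_eq_mul, mul_left_comm, hb, mul_zero]
  let Bg := Localization.Away g
  haveI : _root_.IsReduced Bg := ⟨fun z hz => by
    obtain ⟨n, hn⟩ := hz
    obtain ⟨b, ⟨_, m, rfl⟩, rfl⟩ := IsLocalization.exists_mk'_eq (Submonoid.powers g) z
    rw [← IsLocalization.mk'_pow, IsLocalization.mk'_eq_zero_iff] at hn
    obtain ⟨⟨_, i, rfl⟩, hi⟩ := hn
    rw [IsLocalization.mk'_eq_zero_iff]
    refine ⟨⟨g ^ (i + 1), i + 1, rfl⟩, ?_⟩
    have : g ^ i * b ∈ nilradical B := ⟨n + 1, by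
      show (g ^ i * b) ^ (n + 1) = 0
      rw [mul_pow, pow_succ b n, ← _root_.mul_assoc, ← pow_mul, show i * (n + 1) = i + i * n by ring, pow_add,
        mul_comm (g ^ i) (g ^ (i * n)), _root_.mul_assoc (g ^ (i * n)), show g ^ i * b ^ n = 0 from hi]
      ring⟩
    show g ^ (i + 1) * b = 0
    rw [pow_succ', _root_.mul_assoc, hgr _ this]⟩
  let j' : Spec (CommRingCat.of Bg) ⟶ G.R := Spec.map (CommRingCat.ofHom (algebraMap B Bg)) ≫ j
  haveI : IsOpenImmersion (Spec.map (CommRingCat.ofHom (algebraMap B Bg))) := IsOpenImmersion.of_isLocalization g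
  haveI : Nontrivial Bg := by
    by_contra h
    rw [not_nontrivial_iff_subsingleton] at h
    have h1 : algebraMap B Bg 1 = 0 := Subsingleton.elim _ _
    rw [IsLocalization.map_eq_zero_iff (Submonoid.powers g)] at h1
    obtain ⟨⟨_, i, rfl⟩, hi⟩ := h1
    exact hgP (‹P.IsMaximal›.isPrime.mem_of_pow_mem i (by
      simp only [_root_.mul_one] at hi
      rw [hi]; exact P.zero_mem))
  haveI : Nonempty (Spec (CommRingCat.of Bg)) := inferInstanceAs (Nonempty (PrimeSpectrum Bg))
  haveI : LocallyOfFinitePresentation (G.s ≫ eU.hom) := inferInstance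
  obtain ⟨z, hz⟩ := (Scheme.Hom.dense_smoothLocus_of_perfectField (j' ≫ G.s ≫ eU.hom)).nonempty
  refine ⟨j' z, ?_⟩
  rw [← Scheme.Hom.preimage_smoothLocus_eq] at hz
  have : (G.s ≫ eU.hom).smoothLocus = G.s.smoothLocus := smoothLocus_comp_iso G.s eU.hom
  exact this ▸ hz

theorem smooth_of_charZero {k : Type u} [Field k] [CharZero k] (eU : G.U ≅ Spec (CommRingCat.of k))
    [LocallyOfFiniteType G.s] : Smooth G.s ∧ Smooth G.t := by
  haveI : IsLocallyNoetherian G.U := LocallyOfFiniteType.isLocallyNoetherian eU.hom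
  haveI : LocallyOfFinitePresentation G.s := inferInstance
  obtain ⟨r, hr⟩ := exists_mem_smoothLocus_charZero G eU
  haveI := smooth_of_mem G eU hr
  exact ⟨inferInstance, smooth_t_of_smooth_s G⟩

theorem smooth_of_isReduced {k : Type u} [Field k] [PerfectField k] (eU : G.U ≅ Spec (CommRingCat.of k))
    [LocallyOfFiniteType G.s] [IsReduced G.R] : Smooth G.s ∧ Smooth G.t := by
  haveI : IsLocallyNoetherian G.U := LocallyOfFiniteType.isLocallyNoetherian eU.hom
  haveI : LocallyOfFinitePresentation G.s := inferInstance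
  haveI : LocallyOfFinitePresentation (G.s ≫ eU.hom) := inferInstance
  haveI : Nonempty G.R := ⟨G.e (eU.inv (IsLocalRing.closedPoint k))⟩
  obtain ⟨z, hz⟩ := (Scheme.Hom.dense_smoothLocus_of_perfectField (G.s ≫ eU.hom)).nonempty
  have : (G.s ≫ eU.hom).smoothLocus = G.s.smoothLocus := smoothLocus_comp_iso G.s eU.hom
  haveI := smooth_of_mem G eU (this ▸ hz)
  exact ⟨inferInstance, smooth_t_of_smooth_s G⟩

end Groth.Agent.GrpdLib.FieldSmooth
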