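import Groth.Agent.GrpdLib.ClosedSub
import Groth.Agent.GrpdLib.DegDecomp
import Groth.Agent.GrpSchLib.GeomIrr
import Groth.Agent.BMLib.Piece

/-!
# Arrows of a groupoid over a field lie on a single irreducible component
-/

set_option backward.isDefEq.respectTransparency false
set_option backward.isDefEq.respectTransparency.types false

universe u

open CategoryTheory CategoryTheory.Limits AlgebraicGeometry Grpd TopologicalSpace

namespace Groth.Agent.GrpdLib.FieldUni

/-- Any two generizations have a common generization. -/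
def UniAt {X : Type*} [TopologicalSpace X] (x : X) : Prop := ∀ a b : X, a ⤳ x → b ⤳ x → ∃ c, c ⤳ a ∧ c ⤳ b

theorem UniAt.map {X Y : Type*} [TopologicalSpace X] [TopologicalSpace Y] {f : X → Y} (hc : Continuous f)
    (hf : GeneralizingMap f) {x : X} (h : UniAt x) : UniAt (f x) := fun a b ha hb => by
  obtain ⟨a', ha', rfl⟩ := hf ha
  obtain ⟨b', hb', rfl⟩ := hf hb
  obtain ⟨c, hca, hcb⟩ := h a' b' ha' hb'
  exact ⟨f c, hca.map hc, hcb.map hc⟩

variable {S : Scheme.{u}} {G : GroupoidScheme S} {K : Type u} [Field K] (ρ : Spec (CommRingCat.of K) ⟶ G.U)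

/-- Arrows between copies of a point. -/
noncomputable abbrev Arr : Scheme.{u} := pullback (pullback.snd ρ G.t ≫ G.s) ρ

/-- Target. -/
noncomputable abbrev tt : Arr ρ ⟶ Spec (CommRingCat.of K) := pullback.fst _ _ ≫ pullback.fst ρ G.t
/-- Source. -/
noncomputable abbrev ss : Arr ρ ⟶ Spec (CommRingCat.of K) := pullback.snd _ _
/-- Underlying arrow. -/
noncomputable abbrev rr : Arr ρ ⟶ G.R := pullback.fst _ _ ≫ pullback.snd ρ G.t

theorem rr_t : rr ρ ≫ G.t = tt ρ ≫ ρ := by
  simp only [rr, tt, Category.assoc, pullback.condition]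

theorem rr_s : rr ρ ≫ G.s = ss ρ ≫ ρ := by
  simp only [rr, ss, Category.assoc, pullback.condition]

theorem arr_ext {T : Scheme.{u}} {x y : T ⟶ Arr ρ} (h₁ : x ≫ tt ρ = y ≫ tt ρ) (h₂ : x ≫ rr ρ = y ≫ rr ρ)
    (h₃ : x ≫ ss ρ = y ≫ ss ρ) : x = y := by
  apply pullback.hom_ext
  · apply pullback.hom_ext
    · simpa [tt] using h₁
    · simpa [rr] using h₂
  · exact h₃

/-- The identity. -/
noncomputable def ee : Spec (CommRingCat.of K) ⟶ Arr ρ :=
  pullback.lift (pullback.lift (𝟙 _) (ρ ≫ G.e) (by rw [Category.assoc, G.e_t, Category.comp_id, Category.id_comp]))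
    (𝟙 _) (by rw [pullback.lift_snd_assoc, Category.assoc, G.e_s, Category.comp_id, Category.id_comp])

/-- Composition. -/
noncomputable def cc : pullback (ss ρ) (tt ρ) ⟶ Arr ρ :=
  pullback.lift
    (pullback.lift (pullback.fst (ss ρ) (tt ρ) ≫ tt ρ)
      (pullback.lift (pullback.fst (ss ρ) (tt ρ) ≫ rr ρ) (pullback.snd (ss ρ) (tt ρ) ≫ rr ρ)
        (by rw [Category.assoc _ (rr ρ), rr_s, Category.assoc _ (rr ρ), rr_t, pullback.condition_assoc]) ≫ G.c)
      (by rw [G.comp_t, Category.assoc _ (rr ρ), rr_t, Category.assoc _ (tt ρ)]))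
    (pullback.snd (ss ρ) (tt ρ) ≫ ss ρ)
    (by rw [pullback.lift_snd_assoc, G.comp_s, Category.assoc _ (rr ρ), rr_s, Category.assoc _ (ss ρ)])

theorem lift_cc_right {T : Scheme.{u}} (x : T ⟶ Arr ρ) (y : T ⟶ Arr ρ) (hy : y = (x ≫ ss ρ) ≫ ee ρ)
    (h : x ≫ ss ρ = y ≫ tt ρ) : pullback.lift x y h ≫ cc ρ = x := by
  subst hy
  apply arr_ext
  · simp [cc, tt]
  · simp only [cc, rr, Category.assoc, pullback.lift_fst_assoc, pullback.lift_snd]
    rw [← Category.assoc]
    refine Eq.trans ?_ (G.comp_e (x ≫ rr ρ))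
    congr 1
    apply pullback.hom_ext
    · simp [rr]
    · simp [rr, ee, pullback.condition_assoc]
      exact congrArg (x ≫ ·) (((Category.assoc _ _ _).symm.trans ((congrArg (· ≫ G.e) (rr_s ρ)).trans (Category.assoc _ _ _))).symm.trans (by simp [rr]))
  · simp [cc, ss, ee]

theorem lift_cc_left {T : Scheme.{u}} (x : T ⟶ Arr ρ) (y : T ⟶ Arr ρ) (hy : y = (x ≫ tt ρ) ≫ ee ρ)
    (h : y ≫ ss ρ = x ≫ tt ρ) : pullback.lift y x h ≫ cc ρ = x := by
  subst hy
  apply arr_ext
  · simp [cc, tt, ee]
  · simp only [cc, rr, Category.assoc, pullback.lift_fst_assoc, pullback.lift_snd]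
    rw [← Category.assoc]
    refine Eq.trans ?_ (G.e_comp (x ≫ rr ρ))
    congr 1
    apply pullback.hom_ext
    · simp only [Category.assoc, pullback.lift_fst, pullback.lift_fst_assoc, ee, rr, pullback.lift_snd, tt]
      rw [← pullback.condition_assoc (f := ρ) (g := G.t)]
    · simp [rr]
  · simp [cc, ss]

/-- Over an algebraically closed field the identity lies on one component. -/
theorem uniAt_ee [IsAlgClosed K] : UniAt (ee ρ (IsLocalRing.closedPoint K)) := by
  intro a b ha hb
  let e₀ := ee ρ (IsLocalRing.closedPoint K)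
  have red : ∀ C : Closeds ↥(Arr ρ), IsReduced (Scheme.IdealSheafData.vanishingIdeal C).subscheme := fun C =>
    inferInstance
  let mk : ↥(Arr ρ) → Scheme.{u} := fun x =>
    (Scheme.IdealSheafData.vanishingIdeal (X := Arr ρ) ⟨closure {x}, isClosed_closure⟩).subscheme
  let inc : ∀ x, mk x ⟶ Arr ρ := fun x =>
    (Scheme.IdealSheafData.vanishingIdeal (X := Arr ρ) ⟨closure {x}, isClosed_closure⟩).subschemeι
  have hrange : ∀ x, Set.range (inc x) = closure {x} := fun x => by
    rw [Scheme.IdealSheafData.range_subschemeι, Scheme.IdealSheafData.coe_support_vanishingIdeal]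
    rfl
  have hirr : ∀ x, IrreducibleSpace (mk x) := fun x => by
    have : IsClosedImmersion (inc x) := inferInstance
    obtain ⟨t, ht⟩ := (hrange x).ge (subset_closure rfl)
    have hs : ∀ t', inc x t ⤳ inc x t' := fun t' => by
      rw [ht, specializes_iff_mem_closure]
      exact (hrange x).le ⟨t', rfl⟩
    rw [irreducibleSpace_def, Set.top_eq_univ, ← Set.eq_univ_of_forall (s := closure {t}) fun t' =>
      ((inc x).isClosedEmbedding.isInducing.specializes_iff.mp (hs t')).mem_closure]
    exact isIrreducible_singleton.closure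
  have hci : ∀ x, IsClosedImmersion (inc x) := fun x => inferInstance
  have hred : ∀ x, IsReduced (mk x) := fun x => red _
  have := hirr a
  have := hirr b
  have := GrpSchLib.geometricallyIrreducible_of_isAlgClosed (inc a ≫ ss ρ)
  have : IrreducibleSpace ↥(pullback (inc a ≫ ss ρ) (inc b ≫ tt ρ)) := inferInstance
  let m := pullback.map (inc a ≫ ss ρ) (inc b ≫ tt ρ) (ss ρ) (tt ρ) (inc a) (inc b) (𝟙 _)
    (Category.comp_id _) (Category.comp_id _) ≫ cc ρ
  have hW : IsIrreducible (closure (m '' Set.univ)) :=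
    ((IrreducibleSpace.isIrreducible_univ _).image m m.continuous.continuousOn).closure
  have hgen := hW.isGenericPoint_genericPoint isClosed_closure
  refine ⟨hW.genericPoint, hgen.specializes ?_, hgen.specializes ?_⟩
  · have := hci b
    have := hred a
    obtain ⟨l, hl⟩ := ClosedSub.exists_lift_of_range (inc b) ((inc a ≫ ss ρ) ≫ ee ρ) (by
      rintro _ ⟨t, rfl⟩
      refine (hrange b).ge ?_
      rw [Scheme.Hom.comp_apply, Subsingleton.elim ((inc a ≫ ss ρ) t) (IsLocalRing.closedPoint K)]
      exact hb.mem_closure)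
    have hc : (inc a ≫ ss ρ) = l ≫ inc b ≫ tt ρ := by
      rw [reassoc_of% hl]; simp [ee, tt, ss]
    obtain ⟨t, ht⟩ := (hrange a).ge (subset_closure rfl)
    refine subset_closure ⟨pullback.lift (𝟙 _) l (by rw [Category.id_comp]; exact hc) t, trivial, ?_⟩
    rw [← Scheme.Hom.comp_apply]
    have e : pullback.lift (𝟙 _) l (by rw [Category.id_comp]; exact hc) ≫ m = inc a := by
      rw [← Category.assoc]
      refine Eq.trans (congrArg (· ≫ cc ρ) ?_) (lift_cc_right ρ (inc a) _ hl (by rw [Category.assoc]; exact hc))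
      apply pullback.hom_ext <;> simp <;> exact Category.id_comp _
    rw [e]; exact ht
  · have := hci a
    have := hred b
    obtain ⟨l, hl⟩ := ClosedSub.exists_lift_of_range (inc a) ((inc b ≫ tt ρ) ≫ ee ρ) (by
      rintro _ ⟨t, rfl⟩
      refine (hrange a).ge ?_
      rw [Scheme.Hom.comp_apply, Subsingleton.elim ((inc b ≫ tt ρ) t) (IsLocalRing.closedPoint K)]
      exact ha.mem_closure)
    have hc : l ≫ inc a ≫ ss ρ = inc b ≫ tt ρ := by
      rw [reassoc_of% hl]; simp [ee, tt, ss]
    obtain ⟨t, ht⟩ := (hrange b).ge (subset_closure rfl)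
    refine subset_closure ⟨pullback.lift l (𝟙 _) (by rw [Category.id_comp]; exact hc) t, trivial, ?_⟩
    rw [← Scheme.Hom.comp_apply]
    have e : pullback.lift l (𝟙 _) (by rw [Category.id_comp]; exact hc) ≫ m = inc b := by
      rw [← Category.assoc]
      refine Eq.trans (congrArg (· ≫ cc ρ) ?_) (lift_cc_left ρ (inc b) _ hl (by rw [Category.assoc]; exact hc))
      apply pullback.hom_ext <;> simp <;> exact Category.id_comp _
    rw [e]; exact ht

/-- Every arrow of a groupoid over a field lies on a single component. -/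
theorem uniAt {k : Type u} [Field k] (eU : G.U ≅ Spec (CommRingCat.of k)) (r : G.R) : UniAt r := by
  let L := AlgebraicClosure (G.R.residueField r)
  let σ : Spec (CommRingCat.of L) ⟶ G.R :=
    Spec.map (CommRingCat.ofHom (algebraMap (G.R.residueField r) L)) ≫ G.R.fromSpecResidueField r
  have hσ : ∀ z, σ z = r := fun z =>
    (Scheme.Hom.comp_apply _ _ _).trans (G.R.fromSpecResidueField_apply r _)
  let ρ := σ ≫ G.s
  have := (ClosedSub.flat_to_U eU ρ).1
  have := (ClosedSub.flat_to_U eU (σ ≫ G.t)).1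
  have h₁ := (uniAt_ee ρ).map (f := ⇑(pullback.fst (pullback.snd ρ G.t ≫ G.s) ρ))
    (Scheme.Hom.continuous _) (Flat.generalizingMap _)
  let M := pullback.lift (pullback.fst (σ ≫ G.s) G.t ≫ σ) (pullback.snd (σ ≫ G.s) G.t)
    ((Category.assoc _ _ _).trans pullback.condition) ≫ G.c
  have : Flat M := MorphismProperty.of_isPullback (P := @Flat) (isPullback_translate G σ) inferInstance
  have h₂ := h₁.map (f := ⇑M) M.continuous (Flat.generalizingMap M)
  rw [← Scheme.Hom.comp_apply, ← Scheme.Hom.comp_apply] at h₂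
  have e : (ee ρ ≫ pullback.fst (pullback.snd ρ G.t ≫ G.s) ρ) ≫ M = σ := by
    rw [ee, pullback.lift_fst, ← Category.assoc]
    refine Eq.trans ?_ (G.comp_e σ)
    congr 1
    apply pullback.hom_ext <;> simp [ρ] <;> exact Category.id_comp _
  rw [← Category.assoc, e, hσ] at h₂
  exact h₂

theorem subsingleton_minimalPrimes {X : Scheme.{u}} {x : X} (h : UniAt x) :
    (minimalPrimes (X.presheaf.stalk x)).Subsingleton := by
  intro p hp q hq
  let φ := X.fromSpecStalk x
  let P : PrimeSpectrum (X.presheaf.stalk x) := ⟨p, hp.1.1⟩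
  let Q : PrimeSpectrum (X.presheaf.stalk x) := ⟨q, hq.1.1⟩
  have hr : ∀ y, φ y ⤳ x := fun y => by
    have := Set.mem_range_self (f := φ) y
    rwa [Scheme.range_fromSpecStalk] at this
  obtain ⟨c, hca, hcb⟩ := h (φ P) (φ Q) (hr P) (hr Q)
  obtain ⟨o, rfl⟩ : c ∈ Set.range φ := by
    rw [Scheme.range_fromSpecStalk]; exact hca.trans (hr P)
  have hP := φ.isEmbedding.isInducing.specializes_iff.mp hca
  have hQ := φ.isEmbedding.isInducing.specializes_iff.mp hcb
  rw [← PrimeSpectrum.le_iff_specializes] at hP hQ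
  have e₁ : o.asIdeal = p := le_antisymm hP (hp.2 ⟨o.isPrime, bot_le⟩ hP)
  have e₂ : o.asIdeal = q := le_antisymm hQ (hq.2 ⟨o.isPrime, bot_le⟩ hQ)
  exact e₁.symm.trans e₂

theorem existsUnique_component {X : Scheme.{u}} {x : X} (h : UniAt x) :
    ∃! Z : Set X, Z ∈ irreducibleComponents (X : Type u) ∧ x ∈ Z := by
  refine ⟨irreducibleComponent x, ⟨irreducibleComponent_mem_irreducibleComponents x, mem_irreducibleComponent⟩,
    fun Z ⟨hZ, hxZ⟩ => ?_⟩
  have hI := irreducibleComponent_mem_irreducibleComponents x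
  have hga := hZ.1.isGenericPoint_genericPoint (isClosed_of_mem_irreducibleComponents Z hZ)
  have hgb := hI.1.isGenericPoint_genericPoint (isClosed_of_mem_irreducibleComponents _ hI)
  obtain ⟨c, hca, hcb⟩ := h _ _ (hga.specializes hxZ) (hgb.specializes mem_irreducibleComponent)
  have hsub : ∀ {T : Set X} {g : X}, IsGenericPoint g T → c ⤳ g → T ⊆ closure {c} := fun hg hc y hy =>
    (hc.trans (hg.specializes hy)).mem_closure
  have hc := (isIrreducible_singleton (x := c)).closure
  exact (subset_antisymm (hsub hga hca) (hZ.2 hc (hsub hga hca))).trans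
    (subset_antisymm (hsub hgb hcb) (hI.2 hc (hsub hgb hcb))).symm

theorem e_i (G : GroupoidScheme S) : G.e ≫ G.i = G.e := by
  have h₁ := G.comp_i G.e
  have h₂ := G.e_comp (G.e ≫ G.i)
  rw [reassoc_of% G.e_t] at h₁
  refine h₂.symm.trans (Eq.trans ?_ h₁)
  congr 1
  apply pullback.hom_ext
  · rw [pullback.lift_fst, pullback.lift_fst, Category.assoc, reassoc_of% G.i_t, reassoc_of% G.e_s]
  · rw [pullback.lift_snd, pullback.lift_snd]

/-- A component with a rational point at which the geometric fibre is unibranched is geometrically irreducible. -/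
theorem geometricallyIrreducible_of_uniAt {k : Type u} [Field k] (eU : G.U ≅ Spec (CommRingCat.of k))
    (f : G.R ⟶ G.U) (e : G.U ⟶ G.R) (hef : e ≫ f = 𝟙 _) {Z : Scheme.{u}} (ι : Z ⟶ G.R) [IsClosedImmersion ι]
    [IrreducibleSpace Z] (hZ : Set.range ι ∈ irreducibleComponents ↥G.R) (he : Set.range e ⊆ Set.range ι)
    (h : let ρ := Spec.map (CommRingCat.ofHom (algebraMap k (AlgebraicClosure k))) ≫ eU.inv
      UniAt (pullback.lift (f := f) (g := ρ) (ρ ≫ e) (𝟙 _) (by rw [Category.assoc, hef, Category.comp_id, Category.id_comp])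
        (IsLocalRing.closedPoint (AlgebraicClosure k)))) :
    GeometricallyIrreducible (ι ≫ f ≫ eU.hom) := by
  refine GrpSchLib.geometricallyIrreducible_of_algClosure _ ?_
  let g := Spec.map (CommRingCat.ofHom (algebraMap k (AlgebraicClosure k)))
  let ρ := g ≫ eU.inv
  let X := pullback (ι ≫ f ≫ eU.hom) g
  let J : X ⟶ pullback f ρ := pullback.lift (pullback.fst _ _ ≫ ι) (pullback.snd _ _) (by
    rw [← cancel_mono eU.hom]; simp [ρ, pullback.condition, g])
  have : IsReduced G.U := isReduced_of_isOpenImmersion eU.hom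
  obtain ⟨eZ, heZ⟩ := ClosedSub.exists_lift_of_range ι e he
  let eX : Spec (CommRingCat.of (AlgebraicClosure k)) ⟶ X := pullback.lift (ρ ≫ eZ) (𝟙 _) (by
    simp only [Category.assoc, reassoc_of% heZ, reassoc_of% hef, ρ]
    simp [g])
  have heX : eX ≫ J = pullback.lift (f := f) (g := ρ) (ρ ≫ e) (𝟙 _)
      (by rw [Category.assoc, hef, Category.comp_id, Category.id_comp]) := by
    apply pullback.hom_ext
    · simp [eX, J, heZ]
    · simp [eX, J]
  let x₀ := eX (IsLocalRing.closedPoint _)
  have hJ : UniAt (J x₀) := by rw [← Scheme.Hom.comp_apply, heX]; exact h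
  -- `J` is a closed immersion
  have hJsq : IsPullback (pullback.fst (ι ≫ f ≫ eU.hom) g) J ι (pullback.fst f ρ) := by
    refine IsPullback.of_bot ?_ (pullback.lift_fst _ _ _).symm (IsPullback.of_hasPullback f ρ)
    have hsnd : J ≫ pullback.snd f ρ = pullback.snd _ _ := pullback.lift_snd _ _ _
    rw [hsnd]
    refine IsPullback.of_iso (IsPullback.of_hasPullback (ι ≫ f ≫ eU.hom) g) (Iso.refl _) (Iso.refl _) (Iso.refl _)
      eU.symm ?_ ?_ ?_ ?_ <;> simp [ρ]
  have : IsClosedImmersion J := MorphismProperty.of_isPullback (P := @IsClosedImmersion) hJsq inferInstance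
  have hg : IsIntegralHom g := by
    rw [HasAffineProperty.iff_of_isAffine (P := @IsIntegralHom)]
    refine ⟨inferInstance, ?_⟩
    have : (algebraMap k (AlgebraicClosure k)).IsIntegral := Algebra.IsIntegral.isIntegral
    exact (RingHom.isIntegral_respectsIso.arrow_mk_iso_iff (arrowIsoΓSpecOfIsAffine
      (CommRingCat.ofHom (algebraMap k (AlgebraicClosure k))))).1 this
  let p := pullback.fst (ι ≫ f ≫ eU.hom) g
  have : IsIntegralHom p := MorphismProperty.pullback_fst _ _ hg
  have : Flat g := GrpSchLib.flat_spec_map_field _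
  let η := genericPoint Z
  have hmax : ∀ w : ↥(pullback f ρ), w ∈ Set.range J ↔ pullback.fst f ρ w ∈ Set.range ι := fun w => by
    constructor
    · rintro ⟨x, rfl⟩
      exact ⟨p x, by rw [← Scheme.Hom.comp_apply, hJsq.w, Scheme.Hom.comp_apply]⟩
    · rintro ⟨z, hz⟩
      obtain ⟨x, -, hx⟩ := Scheme.Pullback.exists_preimage_pullback (f := ι) (g := pullback.fst f ρ) z w hz
      refine ⟨hJsq.isoPullback.inv x, ?_⟩
      rw [← Scheme.Hom.comp_apply, IsPullback.isoPullback_inv_snd]
      exact hx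
  have hspec : ∀ x : ↥X, ∃ a, a ⤳ x ∧ a ⤳ x₀ ∧ p a = η := fun x => by
    obtain ⟨a, hax, hpa⟩ := Flat.generalizingMap p (genericPoint_specializes (p x) : η ⤳ p x)
    refine ⟨a, hax, ?_, hpa⟩
    have hcl : IsClosed (p '' closure {a}) := p.isClosedMap _ isClosed_closure
    have hmem : p x₀ ∈ p '' closure {a} :=
      (genericPoint_specializes (p x₀) : η ⤳ p x₀).mem_closed hcl ⟨a, subset_closure rfl, hpa⟩
    obtain ⟨y, hy, hpy⟩ := hmem
    -- the fibre over the rational point is a single point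
    have e₁ : y = x₀ := by
      obtain ⟨w, hw, -⟩ := Scheme.Pullback.exists_preimage_pullback (f := p) (g := eZ) y
        (eU.inv (IsLocalRing.closedPoint k)) (by
          rw [hpy]
          show p (eX _) = _
          rw [← Scheme.Hom.comp_apply, pullback.lift_fst, Scheme.Hom.comp_apply]
          exact congrArg eZ (eU.hom.homeomorph.injective (Subsingleton.elim _ _)))
      have hwe : pullback.fst p eZ ≫ pullback.snd _ _ ≫ eX = pullback.fst p eZ := by
        have hpe : pullback.fst p eZ ≫ pullback.snd _ _ ≫ g = pullback.snd p eZ ≫ eU.hom := by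
          rw [← pullback.condition (f := ι ≫ f ≫ eU.hom), reassoc_of% (pullback.condition (f := p) (g := eZ)),
            reassoc_of% heZ, reassoc_of% hef]
        apply pullback.hom_ext
        · simp only [eX, Category.assoc, pullback.lift_fst, ρ]
          rw [reassoc_of% hpe, Iso.hom_inv_id_assoc]
          exact pullback.condition.symm
        · simp only [eX, Category.assoc, pullback.lift_snd, Category.comp_id]
      rw [← hw, ← hwe, Scheme.Hom.comp_apply, Scheme.Hom.comp_apply]
      exact congrArg eX (Subsingleton.elim _ _)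
    exact e₁ ▸ specializes_iff_mem_closure.2 hy
  have hU : ∀ x y : ↥X, ∃ c, c ⤳ x ∧ c ⤳ y := fun x y => by
    obtain ⟨a, hax, ha₀, hpa⟩ := hspec x
    obtain ⟨b, hby, hb₀, -⟩ := hspec y
    obtain ⟨c, hca, hcb⟩ := hJ (J a) (J b) (ha₀.map J.continuous) (hb₀.map J.continuous)
    have hc : c ∈ Set.range J := by
      rw [hmax]
      have h1 : pullback.fst f ρ c ⤳ ι η := by
        have h2 := hca.map (pullback.fst f ρ).continuous
        rw [← Scheme.Hom.comp_apply J, ← hJsq.w, Scheme.Hom.comp_apply] at h2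
        rwa [show ι η = ι (p a) by rw [hpa]]
      have h3 := hZ.2 (isIrreducible_singleton (x := pullback.fst f ρ c)).closure (by
        rintro _ ⟨z, rfl⟩
        exact (h1.trans ((genericPoint_specializes z).map ι.continuous)).mem_closure)
      exact h3 (subset_closure rfl)
    obtain ⟨c, rfl⟩ := hc
    exact ⟨c, (J.isClosedEmbedding.isInducing.specializes_iff.1 hca).trans hax,
      (J.isClosedEmbedding.isInducing.specializes_iff.1 hcb).trans hby⟩
  haveI : Nonempty ↥X := ⟨x₀⟩
  rw [irreducibleSpace_def, Set.top_eq_univ]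
  refine ⟨Set.univ_nonempty, fun U V hU' hV' ⟨x, _, hx⟩ ⟨y, _, hy⟩ => ?_⟩
  obtain ⟨c, hcx, hcy⟩ := hU x y
  exact ⟨c, trivial, hcx.mem_open hU' hx, hcy.mem_open hV' hy⟩

/-- The component through the identity is geometrically irreducible for both projections. -/
theorem geometricallyIrreducible_component {k : Type u} [Field k] (eU : G.U ≅ Spec (CommRingCat.of k))
    {Z : Scheme.{u}} (ι : Z ⟶ G.R) [IsClosedImmersion ι] [IrreducibleSpace Z]
    (hZ : Set.range ι ∈ irreducibleComponents ↥G.R)
    (he : G.e (eU.inv (IsLocalRing.closedPoint k)) ∈ Set.range ι) :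
    GeometricallyIrreducible (ι ≫ G.s ≫ eU.hom) ∧ GeometricallyIrreducible (ι ≫ G.t ≫ eU.hom) := by
  have he' : Set.range G.e ⊆ Set.range ι := by
    rintro _ ⟨u, rfl⟩
    rwa [show u = eU.inv (IsLocalRing.closedPoint k) from eU.hom.homeomorph.injective (Subsingleton.elim _ _)]
  let ρ := Spec.map (CommRingCat.ofHom (algebraMap k (AlgebraicClosure k))) ≫ eU.inv
  have := (ClosedSub.flat_to_U eU ρ).1
  have h₁ := (uniAt_ee ρ).map (f := ⇑(pullback.fst (pullback.snd ρ G.t ≫ G.s) ρ))
    (Scheme.Hom.continuous _) (Flat.generalizingMap _)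
  rw [← Scheme.Hom.comp_apply, ee, pullback.lift_fst] at h₁
  refine ⟨geometricallyIrreducible_of_uniAt eU G.s G.e G.e_s ι hZ he' ?_,
    geometricallyIrreducible_of_uniAt eU G.t G.e G.e_t ι hZ he' ?_⟩
  · have : IsIso G.i := ⟨⟨G.i, i_i G, i_i G⟩⟩
    let φ := (pullbackSymmetry ρ G.t).hom ≫ pullback.map G.t ρ G.s ρ G.i (𝟙 _) (𝟙 _)
      (by rw [G.i_s, Category.comp_id]) (by simp)
    have h₂ := h₁.map (f := ⇑φ) φ.continuous (Flat.generalizingMap φ)
    rw [← Scheme.Hom.comp_apply] at h₂
    have e : pullback.lift (f := G.s) (g := ρ) (ρ ≫ G.e) (𝟙 _) (by rw [Category.assoc, G.e_s, Category.comp_id, Category.id_comp]) =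
        pullback.lift (f := ρ) (g := G.t) (𝟙 _) (ρ ≫ G.e)
          (by rw [Category.assoc, G.e_t, Category.comp_id, Category.id_comp]) ≫ φ := by
      apply pullback.hom_ext <;> simp [φ, e_i]
    show UniAt _
    rw [e]; exact h₂
  · let φ := (pullbackSymmetry ρ G.t).hom
    have h₂ := h₁.map (f := ⇑φ) φ.continuous (Flat.generalizingMap φ)
    rw [← Scheme.Hom.comp_apply] at h₂
    have e : pullback.lift (f := G.t) (g := ρ) (ρ ≫ G.e) (𝟙 _) (by rw [Category.assoc, G.e_t, Category.comp_id, Category.id_comp]) =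
        pullback.lift (f := ρ) (g := G.t) (𝟙 _) (ρ ≫ G.e)
          (by rw [Category.assoc, G.e_t, Category.comp_id, Category.id_comp]) ≫ φ := by
      apply pullback.hom_ext <;> simp [φ]
    show UniAt _
    rw [e]; exact h₂

end Groth.Agent.GrpdLib.FieldUni
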