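import Groth.Agent.FittX.Finite
import Groth.Agent.GrpdLib.StabTorsor

/-!
# The Fitting stratification of a finite groupoid
-/

set_option backward.isDefEq.respectTransparency false
set_option backward.isDefEq.respectTransparency.types false

universe u

open CategoryTheory CategoryTheory.Limits AlgebraicGeometry Grpd

namespace Groth.Agent.GrpdLib

variable {S : Scheme.{u}} (G : GroupoidScheme S)

/-- Composition and second projection make the composable pairs a base change of `s` along `s`. -/
theorem isPullback_c_snd : IsPullback G.c (pullback.snd G.s G.t) G.s G.s := by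
  have hc : ∀ {T : Scheme.{u}} (l : T ⟶ pullback G.s G.t), l ≫ G.c =
      pullback.lift (l ≫ pullback.fst G.s G.t) (l ≫ pullback.snd G.s G.t)
        (by rw [Category.assoc, Category.assoc, pullback.condition]) ≫ G.c := fun l => by
    refine congrArg (· ≫ G.c) ?_
    apply pullback.hom_ext <;> simp
  have key : ∀ {T : Scheme.{u}} (γ β : T ⟶ G.R), γ ≫ G.s = β ≫ G.s → γ ≫ G.s = (β ≫ G.i) ≫ G.t :=
    fun γ β h => by rw [h, Category.assoc, G.i_t]
  refine ⟨⟨?_⟩, ⟨PullbackCone.IsLimit.mk _
    (fun p => pullback.lift (pullback.lift p.fst (p.snd ≫ G.i) (key _ _ p.condition) ≫ G.c) p.snd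
      (by rw [G.comp_s, Category.assoc, G.i_s])) (fun p => ?_) (fun p => pullback.lift_snd _ _ _)
    fun p l h1 h2 => ?_⟩⟩
  · have h := (congrArg (· ≫ G.s) (hc (𝟙 (pullback G.s G.t)))).trans (G.comp_s _ _ _)
    simpa using h
  · rw [G.assoc _ _ _ (key _ _ p.condition) (by rw [Category.assoc, G.i_s])]
    exact (c_congr G _ rfl ((G.i_comp p.snd).trans (by rw [← Category.assoc, ← p.condition, Category.assoc]))).trans
      (G.comp_e p.fst)
  · apply pullback.hom_ext
    · rw [pullback.lift_fst]
      have e : p.fst = l ≫ G.c := h1.symm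
      have hh : (l ≫ pullback.fst G.s G.t) ≫ G.s = (l ≫ pullback.snd G.s G.t) ≫ G.t := by
        rw [Category.assoc, Category.assoc, pullback.condition]
      have hh2 : (l ≫ pullback.snd G.s G.t) ≫ G.s = ((l ≫ pullback.snd G.s G.t) ≫ G.i) ≫ G.t := by
        rw [Category.assoc _ G.i, G.i_t]
      refine (((c_congr G (key _ _ p.condition) (e.trans (hc l)) (by rw [← h2])).trans
        (G.assoc _ _ _ hh hh2)).trans ((c_congr G _ rfl (G.comp_i _)).trans ?_)).symm
      refine (c_congr G _ rfl (show _ = (l ≫ pullback.fst G.s G.t) ≫ G.s ≫ G.e from ?_)).trans (G.comp_e _)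
      simp only [Category.assoc, pullback.condition_assoc]
    · rw [pullback.lift_snd]; exact h2

theorem finSheaf_comap_s_eq_t [IsFinite G.s] (r : ℕ) :
    (FittX.finSheaf G.s r).comap G.s = (FittX.finSheaf G.s r).comap G.t := by
  haveI : IsFinite (pullback.snd G.s G.t) := MorphismProperty.pullback_snd _ _ inferInstance
  rw [FittX.finSheaf_comap (isPullback_c_snd G), FittX.finSheaf_comap (IsPullback.of_hasPullback G.s G.t)]

theorem exists_iso_of_comap_eq {X Y : Scheme.{u}} (f g : X ⟶ Y) (I : Y.IdealSheafData) (h : I.comap f = I.comap g) :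
    ∃ φ : pullback f I.subschemeι ≅ pullback g I.subschemeι,
      φ.hom ≫ pullback.fst g I.subschemeι = pullback.fst f I.subschemeι := by
  have key : ∀ A B : X.IdealSheafData, A = B →
      ∃ e : A.subscheme ≅ B.subscheme, e.hom ≫ B.subschemeι = A.subschemeι := by
    rintro A B rfl; exact ⟨Iso.refl _, by simp⟩
  obtain ⟨e, he⟩ := key _ _ h
  exact ⟨(I.comapIso f).symm ≪≫ e ≪≫ I.comapIso g, by simp [he]⟩

end Groth.Agent.GrpdLib
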