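import Groth.Agent.GrpdLib.BaseChange
import Groth.Agent.SrcDescent.Algebra

/-!
# The norm polynomial of an element of a base change of an affine groupoid
-/

set_option backward.isDefEq.respectTransparency false
set_option backward.isDefEq.respectTransparency.types false

universe u

open Polynomial Matrix
open scoped TensorProduct

noncomputable section

namespace Groth.Agent.GrpdLib

namespace Frame

variable {A B : Type u} [CommRing A] [CommRing B] {α : A →+* B} {n : ℕ}

/-- The rank polynomial of a frame. -/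
def rankPoly (F : Frame α n) : A[X] := (1 + ((X : A[X]) - 1) • (F.mat 1).map Polynomial.C).det

theorem rankPoly_mul (F : Frame α n) {T : Type u} [CommRing T] (h : A →+* T) (a b : T) :
    F.rankPoly.eval₂ h (a * b) = F.rankPoly.eval₂ h a * F.rankPoly.eval₂ h b := by
  have key : ∀ c : T, F.rankPoly.eval₂ h c = (1 + (c - 1) • (F.mat 1).map h).det := fun c => by
    rw [rankPoly, ← Polynomial.coe_eval₂RingHom, RingHom.map_det, RingHom.mapMatrix_apply]
    congr 1
    ext i j
    rcases eq_or_ne i j with rfl | hij <;> simp [*]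
  have hP : (F.mat 1).map h * (F.mat 1).map h = (F.mat 1).map h := by
    rw [← Matrix.map_mul, ← F.mat_mul, one_mul]
  rw [key, key, key, ← det_mul]
  congr 1
  simp only [add_mul, mul_add, one_mul, mul_one, Matrix.smul_mul, Matrix.mul_smul, hP, smul_smul, ← add_assoc,
    sub_smul, one_smul, sub_mul, mul_sub, smul_sub, mul_comm b a]
  abel

theorem rankPoly_one (F : Frame α n) : F.rankPoly.eval 1 = 1 := by
  rw [rankPoly, ← coe_evalRingHom, RingHom.map_det, RingHom.mapMatrix_apply]
  convert Matrix.det_one (n := Fin n) (R := A)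
  ext i j
  rcases eq_or_ne i j with rfl | hij <;> simp [*]

/-- The coefficients of the rank polynomial are orthogonal idempotents. -/
theorem coeff_rankPoly_mul (F : Frame α n) (i j : ℕ) :
    F.rankPoly.coeff i * F.rankPoly.coeff j = if i = j then F.rankPoly.coeff i else 0 := by
  have h := F.rankPoly_mul (T := A[X][X]) (Polynomial.C.comp Polynomial.C) (Polynomial.C X) X
  have hl : F.rankPoly.eval₂ (Polynomial.C.comp Polynomial.C) (Polynomial.C (X : A[X]) * X) =
      ∑ r ∈ Finset.range (F.rankPoly.natDegree + 1), Polynomial.C (Polynomial.C (F.rankPoly.coeff r) * X ^ r) * X ^ r := by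
    rw [Polynomial.eval₂_eq_sum_range]
    refine Finset.sum_congr rfl fun r _ => ?_
    simp [mul_pow, mul_assoc]
  have hr : F.rankPoly.eval₂ (Polynomial.C.comp Polynomial.C) (Polynomial.C (X : A[X])) =
      Polynomial.C F.rankPoly := by
    conv_rhs => rw [← Polynomial.eval₂_C_X (p := F.rankPoly)]
    rw [Polynomial.hom_eval₂]
  have hr' : F.rankPoly.eval₂ (Polynomial.C.comp Polynomial.C) (X : A[X][X]) = F.rankPoly.map Polynomial.C := by
    rw [← Polynomial.eval₂_map, Polynomial.eval₂_C_X]
  rw [hl, hr, hr'] at h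
  have h' := congrArg (fun p : A[X][X] => (p.coeff j).coeff i) h
  simp only [finset_sum_coeff, Polynomial.coeff_C_mul, Polynomial.coeff_map, Polynomial.coeff_mul_C] at h'
  rw [← h']
  rcases le_or_gt j F.rankPoly.natDegree with hj | hj
  · rw [Finset.sum_eq_single j]
    · rcases eq_or_ne i j with rfl | hij
      · simp
      · simp [Polynomial.coeff_X_pow, hij]
    · intro b _ hb
      simp [Polynomial.coeff_X_pow, Ne.symm hb]
    · intro hn
      exact absurd (Finset.mem_range.2 (Nat.lt_succ_of_le hj)) hn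
  · rw [Finset.sum_eq_zero fun b hb => by
      simp [Polynomial.coeff_X_pow, show ¬ j = b by have := Finset.mem_range.1 hb; omega]]
    split_ifs with hij
    · rw [hij, Polynomial.coeff_eq_zero_of_natDegree_lt hj]
    · rfl

theorem rankPoly_zero (F : Frame α n) (e : B →+* A) (he : e.comp α = RingHom.id A) : F.rankPoly.coeff 0 = 0 := by
  have h := F.norm_eq_zero e (RingHom.id A) he (map_zero e)
  rw [Polynomial.coeff_zero_eq_eval_zero, rankPoly, ← coe_evalRingHom, RingHom.map_det, RingHom.mapMatrix_apply]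
  refine Eq.trans ?_ h
  rw [RingHom.id_apply, Frame.norm]
  congr 1
  have hneg : F.mat (0 - 1) = -F.mat 1 := by
    rw [eq_neg_iff_add_eq_zero, ← F.mat_add, sub_add_cancel, F.mat_zero]
  rw [hneg]
  ext i j
  rcases eq_or_ne i j with rfl | hij <;> simp [*]

variable {A' B' : Type u} [CommRing A'] [CommRing B'] {α' : A' →+* B'}

/-- The norm of a scalar. -/
theorem IsMap.norm_alpha {F : Frame α n} {F' : Frame α' n} {h : A →+* A'} {g : B →+* B'} (H : IsMap F F' h g)
    (a : A') : F'.norm (α' a) = F.rankPoly.eval₂ h a := by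
  rw [rankPoly, ← Polynomial.coe_eval₂RingHom, RingHom.map_det, RingHom.mapMatrix_apply, Frame.norm]
  congr 1
  have h1 : F'.mat 1 = (F.mat 1).map h := by rw [← map_one g, H.mat]
  have h2 : F'.mat (α' a - 1) = (a - 1) • (F.mat 1).map h := by
    rw [← h1, ← F'.mat_smul (a - 1) 1, mul_one, map_sub, map_one]
  rw [h2]
  ext i j
  rcases eq_or_ne i j with rfl | hij <;> simp [*]

end Frame

namespace AffData

variable (D : AffData.{u}) (K : Subring D.A) (hK : ∀ a, a ∈ K ↔ D.s a = D.t a)

attribute [local instance] algB algC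

/-- The frame of a base change. -/
theorem exists_frame_bc {n : ℕ} (F : Frame D.s n) (R : Type u) [CommRing R] [Algebra K R] :
    ∃ F' : Frame (D.baseChange K hK R).s n, Frame.IsMap F F'
      (Algebra.TensorProduct.includeLeft : D.A →ₐ[K] D.A ⊗[K] R).toRingHom
      (Algebra.TensorProduct.includeLeft : D.B →ₐ[K] D.B ⊗[K] R).toRingHom :=
  F.exists_isMap _ _ (isPushout_tmap R (sK D K)).flip

theorem isMap_bc {n : ℕ} {F : Frame D.s n} {R R' : Type u} [CommRing R] [Algebra K R] [CommRing R'] [Algebra K R']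
    (φ : R →ₐ[K] R') {F₀ : Frame (D.baseChange K hK R).s n} {F₁ : Frame (D.baseChange K hK R').s n}
    (H₀ : Frame.IsMap F F₀ (Algebra.TensorProduct.includeLeft : D.A →ₐ[K] D.A ⊗[K] R).toRingHom
      (Algebra.TensorProduct.includeLeft : D.B →ₐ[K] D.B ⊗[K] R).toRingHom)
    (H₁ : Frame.IsMap F F₁ (Algebra.TensorProduct.includeLeft : D.A →ₐ[K] D.A ⊗[K] R').toRingHom
      (Algebra.TensorProduct.includeLeft : D.B →ₐ[K] D.B ⊗[K] R').toRingHom) :
    Frame.IsMap F₀ F₁ (Algebra.TensorProduct.map (AlgHom.id K D.A) φ).toRingHom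
      (Algebra.TensorProduct.map (AlgHom.id K D.B) φ).toRingHom where
  u_eq i := by
    rw [H₁.u_eq, H₀.u_eq]
    change F.u i ⊗ₜ[K] (1 : R') = Algebra.TensorProduct.map (AlgHom.id K D.B) φ (F.u i ⊗ₜ[K] 1)
    simp
  v_eq i x := by
    induction x using TensorProduct.induction_on with
    | zero => rw [map_zero, map_zero, map_zero, map_zero]
    | add x y hx hy => rw [map_add, map_add, map_add, map_add, hx, hy]
    | tmul b r =>
      have e₀ : (b ⊗ₜ[K] r : D.B ⊗[K] R) = tmap R (sK D K) ((1 : D.A) ⊗ₜ[K] r) *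
          (Algebra.TensorProduct.includeLeft : D.B →ₐ[K] D.B ⊗[K] R) b := by
        change _ = Algebra.TensorProduct.map (sK D K) (AlgHom.id K R) ((1 : D.A) ⊗ₜ[K] r) * _
        simp
      have e₁ : (b ⊗ₜ[K] φ r : D.B ⊗[K] R') = tmap R' (sK D K) ((1 : D.A) ⊗ₜ[K] φ r) *
          (Algebra.TensorProduct.includeLeft : D.B →ₐ[K] D.B ⊗[K] R') b := by
        change _ = Algebra.TensorProduct.map (sK D K) (AlgHom.id K R') ((1 : D.A) ⊗ₜ[K] φ r) * _
        simp
      change F₁.v i (Algebra.TensorProduct.map (AlgHom.id K D.B) φ (b ⊗ₜ[K] r)) =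
        Algebra.TensorProduct.map (AlgHom.id K D.A) φ (F₀.v i (b ⊗ₜ[K] r))
      rw [Algebra.TensorProduct.map_tmul, AlgHom.id_apply, e₀, e₁]
      refine (F₁.v_smul i _ _).trans ?_
      refine Eq.trans ?_ (congrArg _ (F₀.v_smul i _ _)).symm
      rw [map_mul, Algebra.TensorProduct.map_tmul, AlgHom.id_apply]
      congr 1
      refine (H₁.v_eq i b).trans ?_
      rw [show F₀.v i ((Algebra.TensorProduct.includeLeft : D.B →ₐ[K] D.B ⊗[K] R) b) = _ from H₀.v_eq i b]
      change F.v i b ⊗ₜ[K] (1 : R') = Algebra.TensorProduct.map (AlgHom.id K D.A) φ (F.v i b ⊗ₜ[K] 1)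
      simp

/-- Tensoring with a polynomial ring. -/
def psi (R : Type u) [CommRing R] [Algebra K R] : D.A ⊗[K] R[X] →ₐ[K] (D.A ⊗[K] R)[X] :=
  Algebra.TensorProduct.lift
    ((Polynomial.CAlgHom (R := K) (A := D.A ⊗[K] R)).comp Algebra.TensorProduct.includeLeft)
    (Polynomial.mapAlgHom Algebra.TensorProduct.includeRight) fun _ _ => Commute.all _ _

theorem psi_tmul (R : Type u) [CommRing R] [Algebra K R] (a : D.A) (q : R[X]) :
    psi D K R (a ⊗ₜ q) =
      Polynomial.C (a ⊗ₜ[K] (1 : R)) *
        q.map (Algebra.TensorProduct.includeRight : R →ₐ[K] D.A ⊗[K] R).toRingHom :=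
  Algebra.TensorProduct.lift_tmul _ _ _ _ _

include hK in
/-- An element equalised by the two maps is killed by a monic polynomial over the new base whose image is a power of `X - f`. -/
theorem exists_normPoly {n : ℕ} (F : Frame D.s n) (R : Type u) [CommRing R] [Algebra K R] (f : D.A ⊗[K] R)
    (hf : (D.baseChange K hK R).s f = (D.baseChange K hK R).t f) :
    ∃ (N : ℕ) (P : R[X]), 0 < N ∧
      P.map (Algebra.TensorProduct.includeRight : R →ₐ[K] D.A ⊗[K] R).toRingHom = (X - Polynomial.C f) ^ N := by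
  classical
  obtain ⟨Fz, Hz⟩ := exists_frame_bc D K hK F K[X]
  have hinvZ : ∀ a, (D.baseChange K hK K[X]).s (Fz.norm ((D.baseChange K hK K[X]).t a)) =
      (D.baseChange K hK K[X]).t (Fz.norm ((D.baseChange K hK K[X]).t a)) := fun a => (t_norm_eq Fz a).symm
  obtain ⟨q, hq⟩ := mem_range_includeRight D K hK K[X] _ (hinvZ ((1 : D.A) ⊗ₜ[K] X))
  have hts : (D.baseChange K hK K[X]).t ((1 : D.A) ⊗ₜ[K] (X : K[X])) =
      (D.baseChange K hK K[X]).s ((1 : D.A) ⊗ₜ[K] X) := by
    change Algebra.TensorProduct.map (tK D K hK) (AlgHom.id K K[X]) ((1 : D.A) ⊗ₜ[K] X) =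
      Algebra.TensorProduct.map (sK D K) (AlgHom.id K K[X]) ((1 : D.A) ⊗ₜ[K] X)
    simp
  have hE : q.map (algebraMap K D.A) = F.rankPoly := by
    let θ : D.A ⊗[K] K[X] →ₐ[K] D.A[X] :=
      Algebra.TensorProduct.lift (Polynomial.CAlgHom (R := K) (A := D.A))
        (Polynomial.mapAlgHom (Algebra.ofId K D.A)) fun _ _ => Commute.all _ _
    have h1 := congrArg θ hq
    rw [hts, Hz.norm_alpha] at h1
    change θ ((1 : D.A) ⊗ₜ[K] q) = θ.toRingHom _ at h1
    rw [Polynomial.hom_eval₂] at h1
    have hC : θ.toRingHom.comp (Algebra.TensorProduct.includeLeft : D.A →ₐ[K] D.A ⊗[K] K[X]).toRingHom =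
        Polynomial.C := RingHom.ext fun a => by
      change θ (a ⊗ₜ[K] 1) = _
      simp [θ]
    have hX : θ.toRingHom ((1 : D.A) ⊗ₜ[K] (X : K[X])) = X := by
      change θ ((1 : D.A) ⊗ₜ[K] X) = _
      simp [θ]
    rw [hC, hX, Polynomial.eval₂_C_X] at h1
    rw [← h1]
    simp [θ]
  -- the generic element
  obtain ⟨S, hS⟩ := TensorProduct.exists_finset f
  let R₀ := MvPolynomial (Option S) K
  let φ : R₀ →ₐ[K] R[X] := MvPolynomial.aeval fun o => o.elim X fun i => Polynomial.C i.1.2
  obtain ⟨F₀, H₀⟩ := exists_frame_bc D K hK F R₀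
  obtain ⟨F₁, H₁⟩ := exists_frame_bc D K hK F R[X]
  let z₀ : D.A ⊗[K] R₀ := (1 : D.A) ⊗ₜ MvPolynomial.X none - ∑ i : S, i.1.1 ⊗ₜ MvPolynomial.X (some i)
  obtain ⟨p, hp⟩ := mem_range_includeRight D K hK R₀ _ (t_norm_eq F₀ z₀).symm
  have Hm := isMap_bc D K hK φ H₀ H₁
  let θA := Algebra.TensorProduct.map (AlgHom.id K D.A) φ
  let ιC : R →ₐ[K] R[X] := Polynomial.CAlgHom
  have hz : θA z₀ = (1 : D.A) ⊗ₜ X - Algebra.TensorProduct.map (AlgHom.id K D.A) ιC f := by
    rw [hS, map_sub, map_sum, map_sum, ← Finset.sum_coe_sort S fun i => Algebra.TensorProduct.map (AlgHom.id K D.A) ιC (i.1 ⊗ₜ i.2)]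
    have hn : φ (MvPolynomial.X none) = X := MvPolynomial.aeval_X _ _
    have hs : ∀ i, φ (MvPolynomial.X (some i)) = Polynomial.C i.1.2 := fun i => MvPolynomial.aeval_X _ _
    simp [θA, ιC, hn, hs]
  have hts₁ : (D.baseChange K hK R[X]).t (θA z₀) = (D.baseChange K hK R[X]).s (θA z₀) := by
    rw [hz]
    have hcomm : ∀ g : D.A →ₐ[K] D.B, ∀ y : D.A ⊗[K] R,
        tmap R[X] g (Algebra.TensorProduct.map (AlgHom.id K D.A) ιC y) =
          Algebra.TensorProduct.map (AlgHom.id K D.B) ιC (tmap R g y) := fun g y => by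
      induction y using TensorProduct.induction_on with
      | zero => simp
      | add a b ha hb => simp only [map_add, ha, hb]
      | tmul a r =>
        change Algebra.TensorProduct.map g (AlgHom.id K R[X]) _ = Algebra.TensorProduct.map _ _
          (Algebra.TensorProduct.map g (AlgHom.id K R) (a ⊗ₜ r))
        simp
    change tmap R[X] (tK D K hK) _ = tmap R[X] (sK D K) _
    rw [map_sub, map_sub, hcomm, hcomm, show tmap R (tK D K hK) f = tmap R (sK D K) f from hf.symm]
    congr 1
    change Algebra.TensorProduct.map _ _ _ = Algebra.TensorProduct.map _ _ _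
    simp
  have hnorm : θA ((1 : D.A) ⊗ₜ p) =
      F.rankPoly.eval₂ (Algebra.TensorProduct.includeLeft : D.A →ₐ[K] D.A ⊗[K] R[X]).toRingHom (θA z₀) := by
    rw [hp, ← H₁.norm_alpha, ← hts₁]
    refine (Hm.norm _).symm.trans (congrArg _ ?_)
    induction z₀ using TensorProduct.induction_on with
    | zero => simp
    | add a b ha hb => simp only [map_add, ha, hb]
    | tmul a r =>
      change Algebra.TensorProduct.map _ _ (Algebra.TensorProduct.map (tK D K hK) _ (a ⊗ₜ r)) =
        Algebra.TensorProduct.map (tK D K hK) _ (Algebra.TensorProduct.map _ _ (a ⊗ₜ r))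
      simp
  let ir := (Algebra.TensorProduct.includeRight : R →ₐ[K] D.A ⊗[K] R)
  let g : (D.A ⊗[K] R)[X] := X - Polynomial.C f
  let h : K →+* (D.A ⊗[K] R)[X] := Polynomial.C.comp (algebraMap K (D.A ⊗[K] R))
  have hP0 : (φ p).map ir.toRingHom = ∑ r ∈ Finset.range (q.natDegree + 1), h (q.coeff r) * g ^ r := by
    have h1 := congrArg (psi D K R) hnorm
    change psi D K R (Algebra.TensorProduct.map (AlgHom.id K D.A) φ ((1 : D.A) ⊗ₜ p)) =
      (psi D K R).toRingHom _ at h1
    rw [Algebra.TensorProduct.map_tmul, AlgHom.id_apply, psi_tmul, ← Algebra.TensorProduct.one_def, map_one,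
      one_mul, Polynomial.hom_eval₂, ← hE, Polynomial.eval₂_map] at h1
    have hh : ((psi D K R).toRingHom.comp (Algebra.TensorProduct.includeLeft : D.A →ₐ[K] D.A ⊗[K] R[X]).toRingHom).comp
        (algebraMap K D.A) = h := RingHom.ext fun c => by
      change psi D K R ((algebraMap K D.A c) ⊗ₜ[K] 1) = Polynomial.C (algebraMap K (D.A ⊗[K] R) c)
      rw [psi_tmul, Polynomial.map_one, mul_one]
      rfl
    have hg : (psi D K R).toRingHom (θA z₀) = g := by
      change psi D K R (θA z₀) = g
      rw [hz, map_sub, psi_tmul, ← Algebra.TensorProduct.one_def, map_one, one_mul, Polynomial.map_X]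
      refine congrArg (X - ·) ?_
      clear hf hS hz hts₁ hnorm h1
      induction f using TensorProduct.induction_on with
      | zero => simp
      | add a b ha hb => simp only [map_add, ha, hb]
      | tmul a r => simp [psi_tmul, ιC, ← map_mul]
    rw [hh, hg, Polynomial.eval₂_eq_sum_range] at h1
    exact h1
  have hmul : ∀ i j, q.coeff i * q.coeff j = if i = j then q.coeff i else 0 := fun i j => by
    refine Subtype.val_injective ?_
    have := F.coeff_rankPoly_mul i j
    rw [← hE, Polynomial.coeff_map, Polynomial.coeff_map] at this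
    split_ifs at this ⊢ <;> exact this
  have h0 : q.coeff 0 = 0 := Subtype.val_injective (by
    have := F.rankPoly_zero D.e D.e_s
    rwa [← hE, Polynomial.coeff_map] at this)
  have h1 : ∑ r ∈ Finset.range (q.natDegree + 1), q.coeff r = 1 := Subtype.val_injective (by
    have := F.rankPoly_one
    rw [← hE, Polynomial.eval_map, Polynomial.eval₂_eq_sum_range] at this
    simp only [one_pow, mul_one, ← map_sum] at this
    exact this)
  let N := q.natDegree.factorial
  refine ⟨N, ∑ r ∈ Finset.range (q.natDegree + 1), Polynomial.C (algebraMap K R (q.coeff r)) * φ p ^ (N / r),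
    Nat.factorial_pos _, ?_⟩
  have hC : ∀ c : K, (Polynomial.C (algebraMap K R c)).map ir.toRingHom = h c := fun c => by
    rw [Polynomial.map_C]
    exact congrArg Polynomial.C (ir.commutes c)
  rw [Polynomial.map_sum]
  calc ∑ r ∈ Finset.range (q.natDegree + 1), (Polynomial.C (algebraMap K R (q.coeff r)) * φ p ^ (N / r)).map ir.toRingHom
      = ∑ r ∈ Finset.range (q.natDegree + 1), h (q.coeff r) * g ^ N := by
        refine Finset.sum_congr rfl fun r hr => ?_
        rw [Polynomial.map_mul, Polynomial.map_pow, hC, hP0]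
        rcases eq_or_ne r 0 with rfl | hr0
        · simp [h0]
        have hdvd : r ∣ N := Nat.dvd_factorial (by omega) (Nat.le_of_lt_succ (Finset.mem_range.1 hr))
        have hid : IsIdempotentElem (h (q.coeff r)) := by
          rw [IsIdempotentElem, ← map_mul, hmul, if_pos rfl]
        have hone : h (q.coeff r) * ∑ r' ∈ Finset.range (q.natDegree + 1), h (q.coeff r') * g ^ r' =
            h (q.coeff r) * g ^ r := by
          rw [Finset.mul_sum, Finset.sum_eq_single r]
          · rw [← mul_assoc, hid.eq]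
          · intro b _ hb
            rw [← mul_assoc, ← map_mul, hmul, if_neg (Ne.symm hb), map_zero, zero_mul]
          · exact fun hn => absurd hr hn
        have hpos : N / r ≠ 0 := (Nat.div_pos (Nat.le_of_dvd (Nat.factorial_pos _) hdvd) (by omega)).ne'
        rw [← hid.pow_eq hpos, ← mul_pow, hone, mul_pow, ← pow_mul, Nat.mul_div_cancel' hdvd, hid.pow_eq hpos]
    _ = g ^ N := by rw [← Finset.sum_mul, ← map_sum, h1, map_one, one_mul]

include hK in
/-- The invariants after base change. -/
theorem baseChange_spec {n : ℕ} (F : Frame D.s n) (R : Type u) [CommRing R] [Algebra K R]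
    (sT tT : D.A ⊗[K] R →ₐ[K] D.B ⊗[K] R) (hsT : ∀ a c, sT (a ⊗ₜ c) = D.s a ⊗ₜ c)
    (htT : ∀ a c, tT (a ⊗ₜ c) = D.t a ⊗ₜ c) :
    (∀ f, sT f = tT f → ∃ (N : ℕ) (P : R[X]), 0 < N ∧
      P.map (Algebra.TensorProduct.includeRight : R →ₐ[K] D.A ⊗[K] R).toRingHom = (X - Polynomial.C f) ^ N) ∧
    (∀ c : R, (Algebra.TensorProduct.includeRight : R →ₐ[K] D.A ⊗[K] R) c = 0 → IsNilpotent c) ∧
    (Module.Flat K R → Function.Injective (Algebra.TensorProduct.includeRight : R →ₐ[K] D.A ⊗[K] R) ∧
      ∀ f, sT f = tT f → f ∈ Set.range (Algebra.TensorProduct.includeRight : R →ₐ[K] D.A ⊗[K] R)) := by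
  have hs : sT = Algebra.TensorProduct.map (sK D K) (AlgHom.id K R) :=
    Algebra.TensorProduct.ext' fun a c => by rw [hsT]; simp; rfl
  have ht : tT = Algebra.TensorProduct.map (tK D K hK) (AlgHom.id K R) :=
    Algebra.TensorProduct.ext' fun a c => by rw [htT]; simp; rfl
  subst hs ht
  have hinj : Function.Injective (Algebra.linearMap K D.A) := Subtype.val_injective
  refine ⟨fun f hf => exists_normPoly D K hK F R f hf, fun c hc => ?_, fun _ =>
    ⟨?_, fun f hf => mem_range_includeRight D K hK R f hf⟩⟩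
  · haveI : Algebra.IsIntegral K D.A := ⟨fun a => isIntegralElem F K (fun x hx => (hK x).2 hx) a⟩
    rw [nilpotent_iff_mem_prime]
    intro p hp
    obtain ⟨P, hP⟩ := SrcDescent.comap_surjective_includeLeft (A₀ := K) (A₁ := R) (B₀ := D.A)
      (fun q => haveI : FaithfulSMul K D.A := (faithfulSMul_iff_algebraMap_injective K D.A).2 hinj; Algebra.IsIntegral.comap_surjective (R := K) (S := D.A) _) ⟨p, hp⟩
    have hmem : c ∈ (PrimeSpectrum.comap (algebraMap R (R ⊗[K] D.A)) P).asIdeal := by
      show c ⊗ₜ[K] (1 : D.A) ∈ P.asIdeal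
      rw [show c ⊗ₜ[K] (1 : D.A) = Algebra.TensorProduct.comm K D.A R ((1 : D.A) ⊗ₜ c) from rfl,
        show ((1 : D.A) ⊗ₜ[K] c) = 0 from hc, map_zero]
      exact P.asIdeal.zero_mem
    rwa [hP] at hmem
  · intro x y hxy
    have h := Module.Flat.rTensor_preserves_injective_linearMap (M := R) (Algebra.linearMap K D.A) hinj
    refine (TensorProduct.lid K R).symm.injective (h ?_)
    simpa using hxy

end AffData

end Groth.Agent.GrpdLib
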