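import Mathlib.FieldTheory.IsAlgClosed.Classification
import Mathlib.FieldTheory.IsAlgClosed.AlgebraicClosure
import Mathlib.AlgebraicGeometry.ResidueField
import Mathlib.AlgebraicGeometry.Pullbacks
import Mathlib.RingTheory.MvPolynomial.Basic

/-!
# Points of a correspondence of a field over an algebraically closed field
-/

set_option backward.isDefEq.respectTransparency false
set_option backward.isDefEq.respectTransparency.types false

universe u

open Cardinal CategoryTheory CategoryTheory.Limits AlgebraicGeometry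

namespace Groth.Agent.GrpdLib

theorem exists_large_algClosed (L : Type u) [Field L] :
    ∃ (K : Type u) (_ : Field K) (_ : IsAlgClosed K) (_ : L →+* K), #L < #K ∧ ℵ₀ < #K := by
  let σ := Set L ⊕ ULift.{u} (Set ℕ)
  let P := FractionRing (MvPolynomial σ L)
  refine ⟨AlgebraicClosure P, inferInstance, inferInstance, algebraMap L (AlgebraicClosure P), ?_, ?_⟩ <;>
    refine lt_of_lt_of_le ?_ (mk_le_of_injective
      (((algebraMap P (AlgebraicClosure P)).injective.comp (IsFractionRing.injective (MvPolynomial σ L) P)).comp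
        (MvPolynomial.X_injective (σ := σ) (R := L))))
  · exact (Cardinal.cantor #L).trans_le (by rw [← mk_set]; exact mk_le_of_injective Sum.inl_injective)
  · refine (Cardinal.cantor ℵ₀).trans_le ?_
    calc (2 : Cardinal) ^ ℵ₀ = #(ULift.{u} (Set ℕ)) := by simp
      _ ≤ #σ := mk_le_of_injective Sum.inr_injective

theorem exists_ringEquiv_of_basis {k K L : Type u} [Field k] [Field K] [Field L] [Algebra k K] [Algebra k L]
    [IsAlgClosed K] [IsAlgClosed L] {s : Set K} {t : Set L} (e : s ≃ t)
    (hs : IsTranscendenceBasis k (Subtype.val : s → K)) (ht : IsTranscendenceBasis k (Subtype.val : t → L)) :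
    ∃ σ : K ≃+* L, ∀ x, σ (algebraMap k K x) = algebraMap k L x := by
  letI := IsAlgClosed.isAlgClosure_of_transcendence_basis _ hs
  letI := IsAlgClosed.isAlgClosure_of_transcendence_basis _ ht
  let E : Algebra.adjoin k (Set.range (Subtype.val : s → K)) ≃ₐ[k] Algebra.adjoin k (Set.range (Subtype.val : t → L)) :=
    hs.1.aevalEquiv.symm.trans ((MvPolynomial.renameEquiv k e).trans ht.1.aevalEquiv)
  refine ⟨IsAlgClosure.equivOfEquiv K L E.toRingEquiv, fun x => ?_⟩
  rw [IsScalarTower.algebraMap_apply k (Algebra.adjoin k (Set.range (Subtype.val : s → K))) K,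
    IsAlgClosure.equivOfEquiv_algebraMap]
  rw [show E.toRingEquiv (algebraMap k _ x) = algebraMap k _ x from E.commutes x, ← IsScalarTower.algebraMap_apply]

/-- Two embeddings of a small field in a large algebraically closed field differ by an automorphism. -/
theorem exists_ringAut_of_small {k K : Type u} [Field k] [Field K] [IsAlgClosed K] (a b : k →+* K)
    (hk : #k < #K) (hK : ℵ₀ < #K) : ∃ σ : K ≃+* K, ∀ x, σ (a x) = b x := by
  have key : ∀ c : k →+* K, letI := c.toAlgebra
      ∃ s : Set K, IsTranscendenceBasis k (Subtype.val : s → K) ∧ #s = #K := fun c => by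
    letI := c.toAlgebra
    obtain ⟨s, hs⟩ := exists_isTranscendenceBasis k K
    refine ⟨s, hs, le_antisymm (mk_set_le s) (le_of_not_gt fun hlt => ?_)⟩
    exact (IsAlgClosed.cardinal_le_max_transcendence_basis' _ hs).not_gt (max_lt (max_lt hk hlt) hK)
  obtain ⟨s, hs, hs'⟩ := key a
  obtain ⟨t, ht, ht'⟩ := key b
  obtain ⟨e⟩ := Cardinal.eq.1 (hs'.trans ht'.symm)
  exact @exists_ringEquiv_of_basis k K K _ _ _ a.toAlgebra b.toAlgebra _ _ _ _ e hs ht

variable {R X : Scheme.{u}}

theorem surjective_desc_of_isIso {K : Type u} [Field K] (h : Spec (CommRingCat.of K) ⟶ X) [IsIso h] :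
    Function.Surjective (Scheme.descResidueField (Scheme.stalkClosedPointTo h)) := by
  have h1 : Function.Surjective (Scheme.descResidueField (Scheme.stalkClosedPointTo (𝟙 (Spec (CommRingCat.of K))))) := by
    refine Function.Surjective.of_comp (g := (Spec (CommRingCat.of K)).residue _) ?_
    intro y
    haveI : IsIso (Scheme.stalkClosedPointTo (𝟙 (Spec (CommRingCat.of K)))) := by
      delta Scheme.stalkClosedPointTo; infer_instance
    obtain ⟨x, hx⟩ := (ConcreteCategory.bijective_of_isIso
      (Scheme.stalkClosedPointTo (𝟙 (Spec (CommRingCat.of K))))).surjective y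
    exact ⟨x, (congr($(Scheme.residue_descResidueField (Scheme.stalkClosedPointTo (𝟙 (Spec (CommRingCat.of K))))) x)).trans hx⟩
  have h2 : ∀ (f : Spec (CommRingCat.of K) ⟶ Spec (CommRingCat.of K)), f = 𝟙 _ →
      Function.Surjective (Scheme.descResidueField (Scheme.stalkClosedPointTo f)) := by
    rintro f rfl; exact h1
  intro y
  obtain ⟨x, hx⟩ := h2 (h ≫ inv h) (IsIso.hom_inv_id h) y
  rw [Scheme.descResidueField_stalkClosedPointTo_comp (inv h) h] at hx
  exact ⟨_, hx⟩

theorem isIso_residueFieldMap {K : Type u} [Field K] (g : Spec (CommRingCat.of K) ⟶ R) (f : R ⟶ X) [IsIso (g ≫ f)] :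
    IsIso (f.residueFieldMap (g (IsLocalRing.closedPoint K))) := by
  have hs := surjective_desc_of_isIso (g ≫ f)
  rw [Scheme.descResidueField_stalkClosedPointTo_comp f g] at hs
  have hd : Function.Injective (Scheme.descResidueField (Scheme.stalkClosedPointTo g)) := RingHom.injective _
  exact (ConcreteCategory.isIso_iff_bijective _).2 ⟨RingHom.injective _, Function.Surjective.of_comp_left (g := (f.residueFieldMap (g (IsLocalRing.closedPoint K)) : _ → _)) hs hd⟩

theorem exists_point_restr {U : Scheme.{u}} (s t : R ⟶ U) (k : Type u) [Field k] (eU : U ≅ Spec (CommRingCat.of k))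
    (r : R) : ∃ (k' : Type u) (_ : Field k') (_ : IsAlgClosed k') (_ : Algebra k k'),
    ∃ r' : ↑(pullback (pullback.snd (Spec.map (CommRingCat.ofHom (algebraMap k k')) ≫ eU.inv) t ≫ s)
      (Spec.map (CommRingCat.ofHom (algebraMap k k')) ≫ eU.inv)),
    (pullback.fst (pullback.snd (Spec.map (CommRingCat.ofHom (algebraMap k k')) ≫ eU.inv) t ≫ s)
      (Spec.map (CommRingCat.ofHom (algebraMap k k')) ≫ eU.inv) ≫
      pullback.snd (Spec.map (CommRingCat.ofHom (algebraMap k k')) ≫ eU.inv) t) r' = r ∧
    IsIso ((pullback.snd (pullback.snd (Spec.map (CommRingCat.ofHom (algebraMap k k')) ≫ eU.inv) t ≫ s)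
      (Spec.map (CommRingCat.ofHom (algebraMap k k')) ≫ eU.inv)).residueFieldMap r') ∧
    IsIso ((pullback.fst (pullback.snd (Spec.map (CommRingCat.ofHom (algebraMap k k')) ≫ eU.inv) t ≫ s)
      (Spec.map (CommRingCat.ofHom (algebraMap k k')) ≫ eU.inv) ≫
      pullback.fst (Spec.map (CommRingCat.ofHom (algebraMap k k')) ≫ eU.inv) t).residueFieldMap r') := by
  obtain ⟨K, _, _, φ, hφ, hK⟩ := exists_large_algClosed (R.residueField r)
  let ρ : Spec (CommRingCat.of K) ⟶ R := Spec.map (CommRingCat.ofHom φ) ≫ R.fromSpecResidueField r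
  let a : CommRingCat.of k ⟶ CommRingCat.of K := Spec.preimage (ρ ≫ t ≫ eU.hom)
  let b : CommRingCat.of k ⟶ CommRingCat.of K := Spec.preimage (ρ ≫ s ≫ eU.hom)
  have hk : #k < #K := lt_of_le_of_lt (mk_le_of_injective
    (RingHom.injective (Spec.preimage (R.fromSpecResidueField r ≫ t ≫ eU.hom)).hom)) hφ
  obtain ⟨σ, hσ⟩ := exists_ringAut_of_small a.hom b.hom hk hK
  letI : Algebra k K := a.hom.toAlgebra
  refine ⟨K, inferInstance, inferInstance, inferInstance, ?_⟩
  set gU := Spec.map (CommRingCat.ofHom (algebraMap k K)) ≫ eU.inv with hgU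
  have hga : gU = ρ ≫ t := by
    rw [hgU, show CommRingCat.ofHom (algebraMap k K) = a from rfl, Spec.map_preimage]
    simp
  let τ : Spec (CommRingCat.of K) ⟶ Spec (CommRingCat.of K) := Spec.map (CommRingCat.ofHom σ.toRingHom)
  haveI : IsIso τ := by
    haveI : IsIso (CommRingCat.ofHom σ.toRingHom) := σ.toCommRingCatIso.isIso_hom
    infer_instance
  have hgb : τ ≫ gU = ρ ≫ s := by
    rw [hgU, ← Category.assoc, ← Spec.map_comp,
      show CommRingCat.ofHom (algebraMap k K) ≫ CommRingCat.ofHom σ.toRingHom = b from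
        CommRingCat.hom_ext (RingHom.ext hσ), Spec.map_preimage]
    simp
  let l1 : Spec (CommRingCat.of K) ⟶ pullback gU t := pullback.lift (𝟙 _) ρ (by rw [Category.id_comp, hga])
  let l : Spec (CommRingCat.of K) ⟶ pullback (pullback.snd gU t ≫ s) gU :=
    pullback.lift l1 τ (by rw [hgb, pullback.lift_snd_assoc])
  refine ⟨l (IsLocalRing.closedPoint K), ?_, ?_, ?_⟩
  · rw [← Scheme.Hom.comp_apply, pullback.lift_fst_assoc, pullback.lift_snd]
    exact (Scheme.Hom.comp_apply _ _ _).trans (Scheme.fromSpecResidueField_apply r _)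
  · haveI : IsIso (l ≫ pullback.snd (pullback.snd gU t ≫ s) gU) := by rw [pullback.lift_snd]; infer_instance
    exact isIso_residueFieldMap l _
  · haveI : IsIso (l ≫ pullback.fst (pullback.snd gU t ≫ s) gU ≫ pullback.fst gU t) := by
      rw [pullback.lift_fst_assoc, pullback.lift_fst]; infer_instance
    exact isIso_residueFieldMap l _

end Groth.Agent.GrpdLib
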